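import Mathlib
import Cfsg.Prelude.Def_Blocks
import Cfsg.Agent.Characters.Core
import Cfsg.Agent.Characters.Linear
import Cfsg.Agent.Characters.Ito
import Cfsg.Agent.Blocks.Basic
import Cfsg.Agent.Blocks.Deflate
import Cfsg.Agent.Blocks.PrincipalKernel
import Cfsg.Agent.S0135
import Cfsg.Agent.S0136

/-!
# Characters of degree prime to `p` of a group with a normal Sylow `p`-subgroup (helper710)

`X` finite, `Q` a normal Sylow `p`-subgroup of `X` (as a subgroup with `IsPGroup p Q` and index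
prime to `p`), `D` the derived subgroup of `Q`.  The irreducible characters of `X` of degree prime
to `p` are those with `D` in the kernel.
-/

set_option autoImplicit false

namespace Cfsg.Agent.H710.PPrimeDeg

open Cfsg Cfsg.Agent.Characters.Core Cfsg.Agent.Blocks
open scoped ComplexConjugate

universe u

variable {X : Type u} [Group X]

theorem charDegree_dvd_card [Finite X] {χ : X → ℂ} (hχ : IsIrrCharacter X χ) :
    charDegree χ ∣ Nat.card X := by
  obtain ⟨n, ρ, hρ, rfl⟩ := hχ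
  have h1 := Cfsg.Agent.S0135.result ρ
  rwa [Basic.charDegree_of_eq (Representation.char_one ρ)]

theorem charDegree_dvd_index [Finite X] {χ : X → ℂ} (hχ : IsIrrCharacter X χ) (H : Subgroup X)
    [H.Normal] (hH : ∀ a ∈ H, ∀ b ∈ H, a * b = b * a) : charDegree χ ∣ H.index := by
  obtain ⟨n, ρ, hρ, rfl⟩ := hχ
  have h1 := Cfsg.Agent.Characters.Ito.finrank_dvd_index ρ H hH
  rwa [Basic.charDegree_of_eq (Representation.char_one ρ)]

theorem charDegree_comp {Y : Type*} [Group Y] (f : X →* Y) (χ : Y → ℂ) :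
    charDegree (χ ∘ f) = charDegree χ := by
  rw [Basic.charDegree_def, Basic.charDegree_def, Function.comp_apply, map_one]

/-- A character of degree prime to `p` of a `p`-group has a linear constituent. -/
theorem exists_linear_constituent {Q : Type*} [Group Q] [Finite Q] [Fintype (IrrCharacter Q)]
    {p : ℕ} [Fact p.Prime]
    (hQ : IsPGroup p Q) {θ : Q → ℂ} {m : IrrCharacter Q → ℕ}
    (hm : θ = ∑ ψ : IrrCharacter Q, m ψ • (ψ : Q → ℂ)) {d : ℕ} (hd : θ 1 = d) (hpd : ¬ p ∣ d) :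
    ∃ ψ : IrrCharacter Q, m ψ ≠ 0 ∧ (ψ : Q → ℂ) 1 = 1 := by
  have hpP : p.Prime := Fact.out
  have h1 : (d : ℂ) = ((∑ ψ : IrrCharacter Q, m ψ * charDegree (ψ : Q → ℂ) : ℕ) : ℂ) := by
    rw [← hd, hm]
    push_cast
    rw [Finset.sum_apply]
    refine Finset.sum_congr rfl fun ψ _ => ?_
    rw [Pi.smul_apply, nsmul_eq_mul, Basic.irr_one_eq_charDegree ψ.2]
  have h2 : d = ∑ ψ : IrrCharacter Q, m ψ * charDegree (ψ : Q → ℂ) := by exact_mod_cast h1
  by_contra hcon
  push Not at hcon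
  apply hpd
  rw [h2]
  refine Finset.dvd_sum fun ψ _ => ?_
  by_cases hmψ : m ψ = 0
  · rw [hmψ, zero_mul]; exact dvd_zero p
  · have h3 := hcon ψ hmψ
    obtain ⟨n, hn⟩ := (IsPGroup.iff_card).1 hQ
    have h4 := charDegree_dvd_card ψ.2
    rw [hn] at h4
    obtain ⟨j, -, hj⟩ := (Nat.dvd_prime_pow hpP).1 h4
    rcases Nat.eq_zero_or_pos j with h0 | h0
    · exfalso
      apply h3
      rw [Basic.irr_one_eq_charDegree ψ.2, hj, h0]
      simp
    · rw [hj]
      exact (dvd_pow_self p h0.ne').mul_left _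

/-- The sum of a character over a subgroup is a natural multiple of the order. -/
theorem exists_sum_subgroup [Finite X] (D : Subgroup X) [Fintype D] {θ : X → ℂ}
    (hθ : IsCharacter X θ) : ∃ k : ℕ, ∑ d : D, θ d = (k : ℂ) * Nat.card D := by
  have h1 : IsCharacter D (θ ∘ D.subtype) := isCharacter_comp D.subtype hθ
  obtain ⟨k, hk⟩ := classInner_isNat h1 (isCharacter_one (G := D))
  refine ⟨k, ?_⟩
  rw [classInner_def] at hk
  have hc : (Nat.card D : ℂ) ≠ 0 := by exact_mod_cast Nat.card_pos.ne'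
  rw [← hk, mul_comm, mul_inv_cancel_left₀ hc]
  refine Finset.sum_congr rfl fun d _ => ?_
  simp

/-- The sum over the derived subgroup of `Q` of a character of `X` of degree prime to `p` does not
vanish. -/
theorem sum_ne_zero [Finite X] {p : ℕ} [Fact p.Prime] (Q : Subgroup X) (hQ : IsPGroup p Q)
    (D : Subgroup X) [Fintype D] (hD : D ≤ (commutator ↥Q).map Q.subtype)
    {θ : X → ℂ} (hθ : IsCharacter X θ) {d : ℕ} (hd : θ 1 = d) (hpd : ¬ p ∣ d) :
    ∑ x : D, θ x ≠ 0 := by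
  classical
  have hfin := finite_irr (G := Q)
  have := Fintype.ofFinite (IrrCharacter Q)
  have hDQ : D ≤ Q := fun x hx => by
    obtain ⟨y, -, rfl⟩ := hD hx
    exact y.2
  obtain ⟨m, hm⟩ := exists_nat_comb (isCharacter_comp Q.subtype hθ)
  have hd' : (θ ∘ Q.subtype) 1 = d := by simpa using hd
  obtain ⟨ψ₀, hψ₀, hψ₁⟩ := exists_linear_constituent hQ hm hd' hpd
  let e : D → Q := fun x => ⟨x, hDQ x.2⟩
  have h1 : ∀ x : D, θ x = ∑ ψ : IrrCharacter Q, (m ψ : ℂ) * (ψ : Q → ℂ) (e x) := by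
    intro x
    have := congrFun hm (e x)
    rw [Finset.sum_apply] at this
    simpa [e] using this
  -- sums over `D` of the constituents
  have h2 : ∀ ψ : IrrCharacter Q, ∃ k : ℕ, ∑ x : D, (ψ : Q → ℂ) (e x) = (k : ℂ) * Nat.card D := by
    intro ψ
    have := Fintype.ofFinite (D.subgroupOf Q)
    obtain ⟨k, hk⟩ := exists_sum_subgroup (D.subgroupOf Q) (Basic.irr_isCharacter ψ.2)
    refine ⟨k, ?_⟩
    have hcard : Nat.card D = Nat.card (D.subgroupOf Q) :=
      Nat.card_congr (Subgroup.subgroupOfEquivOfLe hDQ).symm.toEquiv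
    rw [hcard, ← hk]
    exact Fintype.sum_equiv (Subgroup.subgroupOfEquivOfLe hDQ).symm.toEquiv _ _ fun x => rfl
  choose k hk using h2
  have h3 : ∑ x : D, θ x = ((∑ ψ : IrrCharacter Q, m ψ * k ψ : ℕ) : ℂ) * Nat.card D := by
    rw [Finset.sum_congr rfl fun x _ => h1 x, Finset.sum_comm]
    push_cast
    rw [Finset.sum_mul]
    refine Finset.sum_congr rfl fun ψ _ => ?_
    rw [← Finset.mul_sum, hk ψ, mul_assoc]
  have hc : (Nat.card D : ℂ) ≠ 0 := by exact_mod_cast Nat.card_pos.ne'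
  have h4 : k ψ₀ = 1 := by
    obtain ⟨f, hf⟩ := Cfsg.Agent.Characters.Linear.exists_hom_of_isIrrCharacter ψ₀.2 hψ₁
    have h5 := hk ψ₀
    have h6 : ∀ x : D, (ψ₀ : Q → ℂ) (e x) = 1 := by
      intro x
      rw [hf]
      obtain ⟨y, hy, hyx⟩ := hD x.2
      have h7 : e x = y := Subtype.ext hyx.symm
      have h8 : y ∈ f.ker := Abelianization.commutator_subset_ker f hy
      show ((f (e x) : ℂˣ) : ℂ) = 1
      rw [h7, MonoidHom.mem_ker.1 h8]
      simp
    rw [Finset.sum_congr rfl fun x _ => h6 x, Finset.sum_const, Finset.card_univ, nsmul_eq_mul,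
      mul_one, ← Nat.card_eq_fintype_card] at h5
    have h9 : ((k ψ₀ : ℂ) - 1) * Nat.card D = 0 := by rw [sub_mul, ← h5]; ring
    rcases mul_eq_zero.1 h9 with h | h
    · have : (k ψ₀ : ℂ) = 1 := by linear_combination h
      exact_mod_cast this
    · exact absurd h hc
  rw [h3]
  refine mul_ne_zero ?_ hc
  have h5 : 0 < ∑ ψ : IrrCharacter Q, m ψ * k ψ := by
    refine Finset.sum_pos' (fun _ _ => Nat.zero_le _) ⟨ψ₀, Finset.mem_univ _, ?_⟩
    rw [h4, mul_one]
    exact Nat.pos_of_ne_zero hψ₀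
  exact_mod_cast h5.ne'

/-- Characters of degree prime to `p` have the derived subgroup of a normal Sylow `p`-subgroup in
their kernel. -/
theorem apply_eq_of_not_dvd [Finite X] {p : ℕ} [Fact p.Prime] (Q : Subgroup X) (hQ : IsPGroup p Q)
    (D : Subgroup X) [D.Normal] (hD : D ≤ (commutator ↥Q).map Q.subtype)
    {θ : X → ℂ} (hθ : IsIrrCharacter X θ) (hpd : ¬ p ∣ charDegree θ) :
    ∀ x ∈ D, θ x = θ 1 := by
  have := Fintype.ofFinite D
  obtain ⟨χ', hχ'⟩ := Deflate.exists_deflation D θ hθ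
    (sum_ne_zero Q hQ D hD (Basic.irr_isCharacter hθ) (Basic.irr_one_eq_charDegree hθ) hpd)
  intro x hx
  rw [hχ']
  show (χ' : X ⧸ D → ℂ) (x : X ⧸ D) = (χ' : X ⧸ D → ℂ) ((1 : X) : X ⧸ D)
  rw [(QuotientGroup.eq_one_iff x).2 hx, QuotientGroup.mk_one]

/-- The irreducible characters with the derived subgroup of a normal subgroup `Q` of index prime to
`p` in the kernel have degree prime to `p`. -/
theorem not_dvd_of_apply_eq [Finite X] {p : ℕ} [Fact p.Prime] (Q : Subgroup X) [Q.Normal]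
    (hQi : ¬ p ∣ Q.index)
    (D : Subgroup X) [D.Normal] (hD : ∀ a ∈ Q, ∀ b ∈ Q, a * b * a⁻¹ * b⁻¹ ∈ D) (_hDQ : D ≤ Q)
    {θ : X → ℂ} (hθ : IsIrrCharacter X θ) (h : ∀ x ∈ D, θ x = θ 1) : ¬ p ∣ charDegree θ := by
  have := Fintype.ofFinite D
  have hsum : ∑ x : D, θ x ≠ 0 := by
    rw [Finset.sum_congr rfl fun (x : D) _ => h (x : X) x.2, Finset.sum_const, Finset.card_univ,
      nsmul_eq_mul,
      ← Nat.card_eq_fintype_card]
    have hc : (Nat.card D : ℂ) ≠ 0 := by exact_mod_cast Nat.card_pos.ne'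
    exact mul_ne_zero hc (Basic.irr_one_ne_zero hθ)
  obtain ⟨χ', hχ'⟩ := Deflate.exists_deflation D θ hθ hsum
  let f : X →* X ⧸ D := QuotientGroup.mk' D
  have hf : Function.Surjective f := QuotientGroup.mk'_surjective D
  have hn : (Q.map f).Normal := Subgroup.Normal.map inferInstance f hf
  have h1 : charDegree (χ' : X ⧸ D → ℂ) ∣ (Q.map f).index := by
    refine charDegree_dvd_index χ'.2 (Q.map f) ?_
    rintro _ ⟨a, ha, rfl⟩ _ ⟨b, hb, rfl⟩
    have h2 : f (a * b * a⁻¹ * b⁻¹) = 1 := (QuotientGroup.eq_one_iff _).2 (hD a ha b hb)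
    have h3 : f a * f b * (f a)⁻¹ * (f b)⁻¹ = 1 := by simpa using h2
    rw [mul_inv_eq_one, mul_inv_eq_iff_eq_mul] at h3
    exact h3
  have h4 : charDegree θ = charDegree (χ' : X ⧸ D → ℂ) := by
    rw [hχ']
    exact charDegree_comp f _
  intro hp
  rw [h4] at hp
  have h5 : (Q.map f).index ∣ Q.index := Q.index_map_dvd hf
  exact hQi (hp.trans (h1.trans h5))

/-- An element outside a normal subgroup `D` is detected by an irreducible character with `D` in the
kernel. -/
theorem exists_irr_apply_ne [Finite X] (D : Subgroup X) [D.Normal] {x : X} (hx : x ∉ D) :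
    ∃ θ : IrrCharacter X, (∀ d ∈ D, (θ : X → ℂ) d = (θ : X → ℂ) 1) ∧
      (θ : X → ℂ) x ≠ (θ : X → ℂ) 1 := by
  by_contra hcon
  push Not at hcon
  apply hx
  have h1 : IsConj (x : X ⧸ D) 1 := by
    rw [Cfsg.Agent.S0136.result]
    intro χ
    have hirr : IsIrrCharacter X ((χ : X ⧸ D → ℂ) ∘ (QuotientGroup.mk' D)) :=
      isIrr_comp (QuotientGroup.mk' D) (QuotientGroup.mk'_surjective D) χ.2
    have := hcon ⟨_, hirr⟩ (by
      intro d hd
      show (χ : X ⧸ D → ℂ) (d : X ⧸ D) = (χ : X ⧸ D → ℂ) ((1 : X) : X ⧸ D)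
      rw [(QuotientGroup.eq_one_iff d).2 hd, QuotientGroup.mk_one])
    exact this
  have h2 : (x : X ⧸ D) = 1 := by
    obtain ⟨c, hc⟩ := isConj_iff.1 h1
    have : c * (x : X ⧸ D) = c := by
      rw [← mul_inv_eq_one]
      exact hc
    simpa using this
  exact (QuotientGroup.eq_one_iff x).1 h2

end Cfsg.Agent.H710.PPrimeDeg
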