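import Mathlib
import Cfsg.Prelude.Def_Blocks
import Cfsg.Agent.H710.SylowNorm
import Cfsg.Agent.Blocks.OrbitSum
import Cfsg.Agent.S0140
import Cfsg.Agent.S0146
import Cfsg.Agent.S0148

/-!
# The sum of the squares of the degrees prime to `p` (helper710)

For every prime `p` and Sylow `p`-subgroup `P` with normalizer `N` the sum of `χ(1)²` over the
irreducible characters `χ` of degree prime to `p` is at least `|N : P'|`, with equality if and
only if `N` has a normal complement.
-/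

set_option autoImplicit false

namespace Cfsg.Agent.H710.SumSquares

open Cfsg Cfsg.Agent.Characters.Core Cfsg.Agent.Blocks Subgroup

universe u

variable {G : Type u} [Group G]

/-- Over a character of degree prime to `p` of a subgroup of index prime to `p` there is an
irreducible character of degree prime to `p`. -/
theorem exists_over [Fintype G] {p : ℕ} [Fact p.Prime] (N : Subgroup G) [Fintype N]
    (hN : ¬ p ∣ N.index) (θ : IrrCharacter N) (hθ : ¬ p ∣ charDegree (θ : N → ℂ)) :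
    ∃ χ : IrrCharacter G, ¬ p ∣ charDegree (χ : G → ℂ) ∧
      classInner (fun n : N => (χ : G → ℂ) n) (θ : N → ℂ) ≠ 0 := by
  classical
  have hpP : p.Prime := Fact.out
  have := finite_irr (G := G)
  have := Fintype.ofFinite (IrrCharacter G)
  have hind := Cfsg.Agent.S0148.result N (θ : N → ℂ) (Basic.irr_isCharacter θ.2)
  obtain ⟨m, hm⟩ := exists_nat_comb hind
  have hdeg : indFun N (θ : N → ℂ) 1 = ((N.index * charDegree (θ : N → ℂ) : ℕ) : ℂ) := by
    rw [indFun_apply]
    have h1 : ∀ x : G, extendByZero N (θ : N → ℂ) (x⁻¹ * 1 * x) = charDegree (θ : N → ℂ) := by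
      intro x
      rw [mul_one, inv_mul_cancel, extendByZero_of_mem N _ N.one_mem]
      exact Basic.irr_one_eq_charDegree θ.2
    rw [Finset.sum_congr rfl fun x _ => h1 x, Finset.sum_const, Finset.card_univ, nsmul_eq_mul,
      ← Nat.card_eq_fintype_card, ← N.card_mul_index]
    have hc : (Nat.card N : ℂ) ≠ 0 := by exact_mod_cast Nat.card_pos.ne'
    push_cast
    field_simp
  have h2 : N.index * charDegree (θ : N → ℂ) =
      ∑ χ : IrrCharacter G, m χ * charDegree (χ : G → ℂ) := by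
    have h3 : ((N.index * charDegree (θ : N → ℂ) : ℕ) : ℂ) =
        ((∑ χ : IrrCharacter G, m χ * charDegree (χ : G → ℂ) : ℕ) : ℂ) := by
      rw [← hdeg, hm]
      push_cast
      rw [Finset.sum_apply]
      refine Finset.sum_congr rfl fun ψ _ => ?_
      rw [Pi.smul_apply, nsmul_eq_mul, Basic.irr_one_eq_charDegree ψ.2]
    exact_mod_cast h3
  by_contra hcon
  push Not at hcon
  have h4 : p ∣ N.index * charDegree (θ : N → ℂ) := by
    rw [h2]
    refine Finset.dvd_sum fun χ _ => ?_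
    by_cases hχ : p ∣ charDegree (χ : G → ℂ)
    · exact hχ.mul_left _
    · have h5 := hcon χ hχ
      have h6 : classInner (indFun N (θ : N → ℂ)) (χ : G → ℂ) = m χ := by
        rw [hm, classInner_sum_nsmul_irr]
      rw [Cfsg.Agent.S0146.result N (θ : N → ℂ) (χ : G → ℂ) (Basic.irr_isClassFunction χ.2),
        ← classInner_conj_symm, h5, map_zero] at h6
      have h7 : m χ = 0 := by exact_mod_cast h6.symm
      rw [h7, zero_mul]
      exact dvd_zero p
  rcases (Nat.Prime.dvd_mul hpP).1 h4 with h | h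
  · exact hN h
  · exact hθ h

/-- The degrees of different constituents of the restriction add up to at most the degree; if the
squares of the degrees of a set of constituents add up to the square of the degree, then the
restriction is equal to each member of the set. -/
theorem fiber [Fintype G] (N : Subgroup G) [Fintype N] (χ : IrrCharacter G)
    (S : Finset (IrrCharacter N))
    (hS : ∀ θ ∈ S, classInner (fun n : N => (χ : G → ℂ) n) (θ : N → ℂ) ≠ 0) :
    ∑ θ ∈ S, charDegree (θ : N → ℂ) ^ 2 ≤ charDegree (χ : G → ℂ) ^ 2 ∧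
    (∑ θ ∈ S, charDegree (θ : N → ℂ) ^ 2 = charDegree (χ : G → ℂ) ^ 2 →
      ∀ θ ∈ S, ∀ x : N, (χ : G → ℂ) x = (θ : N → ℂ) x) := by
  classical
  have := finite_irr (G := N)
  have := Fintype.ofFinite (IrrCharacter N)
  obtain ⟨m, hm⟩ := exists_nat_comb (isCharacter_comp N.subtype (Basic.irr_isCharacter χ.2))
  have hm' : (fun n : N => (χ : G → ℂ) n) = ∑ ψ : IrrCharacter N, m ψ • (ψ : N → ℂ) := hm
  have hmS : ∀ θ ∈ S, 1 ≤ m θ := by
    intro θ hθ
    have h1 := hS θ hθ
    rw [hm', classInner_sum_nsmul_irr] at h1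
    have h2 : m θ ≠ 0 := by exact_mod_cast h1
    omega
  have hdeg : charDegree (χ : G → ℂ) = ∑ ψ : IrrCharacter N, m ψ * charDegree (ψ : N → ℂ) := by
    have h3 : ((charDegree (χ : G → ℂ) : ℕ) : ℂ) =
        ((∑ ψ : IrrCharacter N, m ψ * charDegree (ψ : N → ℂ) : ℕ) : ℂ) := by
      rw [← Basic.irr_one_eq_charDegree χ.2]
      have h4 := congrFun hm' 1
      rw [Finset.sum_apply] at h4
      push_cast
      rw [show (χ : G → ℂ) 1 = (χ : G → ℂ) ((1 : N) : G) from rfl]
      refine h4.trans (Finset.sum_congr rfl fun ψ _ => ?_)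
      rw [Pi.smul_apply, nsmul_eq_mul, Basic.irr_one_eq_charDegree ψ.2]
    exact_mod_cast h3
  have hle : ∀ T : Finset (IrrCharacter N),
      ∑ ψ ∈ T, m ψ * charDegree (ψ : N → ℂ) ≤ charDegree (χ : G → ℂ) := by
    intro T
    rw [hdeg]
    exact Finset.sum_le_sum_of_subset (Finset.subset_univ T)
  have hle' : ∑ ψ ∈ S, charDegree (ψ : N → ℂ) ≤ charDegree (χ : G → ℂ) := by
    refine le_trans (Finset.sum_le_sum fun θ hθ => ?_) (hle S)
    exact Nat.le_mul_of_pos_left _ (hmS θ hθ)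
  have hsq : ∀ T : Finset (IrrCharacter N), ∑ ψ ∈ T, charDegree (ψ : N → ℂ) ^ 2 ≤
      (∑ ψ ∈ T, charDegree (ψ : N → ℂ)) ^ 2 := by
    intro T
    exact Finset.sum_sq_le_sq_sum_of_nonneg fun _ _ => Nat.zero_le _
  refine ⟨(hsq S).trans (Nat.pow_le_pow_left hle' 2), fun heq θ hθ => ?_⟩
  set a := charDegree (θ : N → ℂ) with ha
  have ha0 : 0 < a := Basic.charDegree_pos θ.2
  set t := ∑ ψ ∈ S.erase θ, charDegree (ψ : N → ℂ) with ht
  have h1 : ∑ ψ ∈ S, charDegree (ψ : N → ℂ) = a + t :=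
    (Finset.add_sum_erase S (fun ψ : IrrCharacter N => charDegree (ψ : N → ℂ)) hθ).symm
  have h2 : ∑ ψ ∈ S, charDegree (ψ : N → ℂ) ^ 2 =
      a ^ 2 + ∑ ψ ∈ S.erase θ, charDegree (ψ : N → ℂ) ^ 2 :=
    (Finset.add_sum_erase S (fun ψ : IrrCharacter N => charDegree (ψ : N → ℂ) ^ 2) hθ).symm
  have h3 := hsq (S.erase θ)
  rw [← ht] at h3
  rw [h1] at hle'
  have h4 : charDegree (χ : G → ℂ) ^ 2 ≤ a ^ 2 + t ^ 2 := by
    rw [← heq, h2]
    omega
  have h5 : (a + t) ^ 2 ≤ a ^ 2 + t ^ 2 := (Nat.pow_le_pow_left hle' 2).trans h4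
  have h6 : t = 0 := by nlinarith
  have h7 : charDegree (χ : G → ℂ) = a := by
    rw [h6] at h4 hle'
    have h8 : charDegree (χ : G → ℂ) ≤ a := by
      by_contra hc
      push Not at hc
      nlinarith
    omega
  -- multiplicities
  have h8 : m θ = 1 := by
    have h9 := hle {θ}
    rw [Finset.sum_singleton, h7] at h9
    have h10 := hmS θ hθ
    by_contra hc
    have : 2 ≤ m θ := by omega
    nlinarith
  have h9 : ∀ ψ : IrrCharacter N, ψ ≠ θ → m ψ = 0 := by
    intro ψ hψ
    have h10 := hle {ψ, θ}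
    rw [Finset.sum_pair hψ, h7, h8, one_mul] at h10
    have h11 : 0 < charDegree (ψ : N → ℂ) := Basic.charDegree_pos ψ.2
    have h12 : m ψ * charDegree (ψ : N → ℂ) = 0 := by omega
    rcases Nat.mul_eq_zero.1 h12 with h | h
    · exact h
    · omega
  intro x
  have h10 := congrFun hm' x
  rw [Finset.sum_apply] at h10
  refine h10.trans ?_
  rw [Finset.sum_eq_single θ]
  · rw [Pi.smul_apply, h8, one_smul]
  · intro ψ _ hψ
    rw [Pi.smul_apply, h9 ψ hψ, zero_smul]
  · intro h; exact absurd (Finset.mem_univ _) h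

/-- If the normal subgroup `K` meets `N_G(P)` trivially then the irreducible characters of degree
prime to `p` have `K` in their kernel. -/
theorem exists_deflation_of_inf_eq_bot [Finite G] {p : ℕ} [Fact p.Prime] (P : Sylow p G)
    (K : Subgroup G) [K.Normal] (hK : K ⊓ normalizer ((P : Subgroup G) : Set G) = ⊥)
    (χ : IrrCharacter G) (hχ : ¬ p ∣ charDegree (χ : G → ℂ)) :
    ∀ x ∈ K, (χ : G → ℂ) x = (χ : G → ℂ) 1 := by
  classical
  have hpP : p.Prime := Fact.out
  have := Fintype.ofFinite G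
  have := Fintype.ofFinite K
  have hint : ∀ g : G, IsIntegral ℤ ((χ : G → ℂ) g) := by
    intro g
    obtain ⟨n, ρ, -, h⟩ := χ.2
    rw [← h]
    exact Cfsg.Agent.S0140.result ρ g
  let f : G → AlgInt := fun g => ⟨(χ : G → ℂ) g, hint g⟩
  obtain ⟨a, ha⟩ := OrbitSum.sum_eq_smul_of_disjoint_centralizer (A := AlgInt) (P : Subgroup G) P.2
    ((Finset.univ.filter (· ∈ K)).erase 1) (by
      intro u hu x hx
      rw [Finset.mem_erase, Finset.mem_filter] at hx ⊢
      refine ⟨fun h => hx.1 ?_, Finset.mem_univ _, ‹K.Normal›.conj_mem x hx.2.2 u⟩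
      have : u * x = u := by rwa [mul_inv_eq_one] at h
      simpa using this) (by
      intro x hx hxC
      rw [Finset.mem_erase, Finset.mem_filter] at hx
      have h1 : x ∈ K ⊓ normalizer ((P : Subgroup G) : Set G) :=
        ⟨hx.2.2, Subgroup.centralizer_le_normalizer _ hxC⟩
      rw [hK, Subgroup.mem_bot] at h1
      exact hx.1 h1) f (by
      intro u _ x _
      exact Subtype.ext (Basic.irr_conj χ.2 x u))
  have hsum : ∑ x : K, (χ : G → ℂ) x = (χ : G → ℂ) 1 + (p : ℂ) * (a : ℂ) := by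
    have h1 : ∑ x : K, (χ : G → ℂ) x = ∑ x ∈ Finset.univ.filter (· ∈ K), (χ : G → ℂ) x := by
      exact (Finset.sum_subtype (Finset.univ.filter (· ∈ K)) (by simp) (χ : G → ℂ)).symm
    rw [h1, ← Finset.add_sum_erase (Finset.univ.filter (· ∈ K)) (χ : G → ℂ) (a := 1) (by
      simp [K.one_mem])]
    congr 1
    have h2 := congrArg (fun z : AlgInt => (z : ℂ)) ha
    simpa [f] using h2
  have hne : ∑ x : K, (χ : G → ℂ) x ≠ 0 := by
    intro h0
    rw [hsum, Basic.irr_one_eq_charDegree χ.2] at h0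
    apply hχ
    have hp0 : (p : ℂ) ≠ 0 := by exact_mod_cast hpP.ne_zero
    have h1 : ((charDegree (χ : G → ℂ) : ℚ) / p : ℚ) = ((charDegree (χ : G → ℂ) : ℚ) / p) := rfl
    have h2 : IsIntegral ℤ ((((charDegree (χ : G → ℂ) : ℚ) / p : ℚ)) : ℂ) := by
      have h3 : ((((charDegree (χ : G → ℂ) : ℚ) / p : ℚ)) : ℂ) = -(a : ℂ) := by
        push_cast
        rw [div_eq_iff hp0]
        linear_combination h0
      rw [h3]
      exact a.2.neg
    have h4 : IsIntegral ℤ ((charDegree (χ : G → ℂ) : ℚ) / p : ℚ) := by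
      have h5 : IsIntegral ℤ (algebraMap ℚ ℂ ((charDegree (χ : G → ℂ) : ℚ) / p : ℚ)) := h2
      exact (isIntegral_algebraMap_iff (algebraMap ℚ ℂ).injective).1 h5
    obtain ⟨z, hz⟩ := IsIntegrallyClosed.isIntegral_iff.1 h4
    have hp0' : (p : ℚ) ≠ 0 := by exact_mod_cast hpP.ne_zero
    rw [eq_div_iff hp0'] at hz
    have h6 : (z * p : ℤ) = (charDegree (χ : G → ℂ) : ℤ) := by
      have : ((z * p : ℤ) : ℚ) = ((charDegree (χ : G → ℂ) : ℤ) : ℚ) := by
        push_cast
        simpa using hz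
      exact_mod_cast this
    have h7 : (p : ℤ) ∣ (charDegree (χ : G → ℂ) : ℤ) := ⟨z, by rw [← h6]; ring⟩
    exact_mod_cast h7
  obtain ⟨χ', hχ'⟩ := Deflate.exists_deflation K (χ : G → ℂ) χ.2 hne
  intro x hx
  rw [hχ']
  show (χ' : G ⧸ K → ℂ) (x : G ⧸ K) = (χ' : G ⧸ K → ℂ) ((1 : G) : G ⧸ K)
  rw [(QuotientGroup.eq_one_iff x).2 hx, QuotientGroup.mk_one]

/-- The sum of the squares of the degrees prime to `p` of the Sylow normalizer. -/
theorem sum_normalizer [Finite G] {p : ℕ} [Fact p.Prime] (P : Sylow p G)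
    [Fintype {θ : IrrCharacter ↥(normalizer ((P : Subgroup G) : Set G)) //
      ¬ p ∣ charDegree (θ : ↥(normalizer ((P : Subgroup G) : Set G)) → ℂ)}] :
    Nat.card ↥(normalizer ((P : Subgroup G) : Set G)) =
      Nat.card (commutator ↥(P : Subgroup G)) *
      ∑ θ : {θ : IrrCharacter ↥(normalizer ((P : Subgroup G) : Set G)) //
        ¬ p ∣ charDegree (θ : ↥(normalizer ((P : Subgroup G) : Set G)) → ℂ)},
        charDegree (θ.1 : ↥(normalizer ((P : Subgroup G) : Set G)) → ℂ) ^ 2 := by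
  classical
  have := Fintype.ofFinite G
  set N := normalizer ((P : Subgroup G) : Set G) with hN
  have hQn := SylowNorm.sylN_normal P
  have := finite_irr (G := N)
  have := Fintype.ofFinite (IrrCharacter N)
  have h1 := PrincipalKernel.sum_sq_degrees (⁅SylowNorm.sylN P, SylowNorm.sylN P⁆)
  have h2 : Nat.card (commutator ↥(P : Subgroup G)) =
      Nat.card (⁅SylowNorm.sylN P, SylowNorm.sylN P⁆ : Subgroup N) := by
    have h3 := SylowNorm.derived_map P
    have h4 : Nat.card ((⁅SylowNorm.sylN P, SylowNorm.sylN P⁆ : Subgroup N).map N.subtype) =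
        Nat.card (⁅SylowNorm.sylN P, SylowNorm.sylN P⁆ : Subgroup N) :=
      Subgroup.card_map_of_injective (Subgroup.subtype_injective N)
    have h5 : Nat.card ((commutator ↥(P : Subgroup G)).map (P : Subgroup G).subtype) =
        Nat.card (commutator ↥(P : Subgroup G)) :=
      Subgroup.card_map_of_injective (Subgroup.subtype_injective (P : Subgroup G))
    rw [← h4, ← h5, h3]
  rw [h2, ← Subgroup.card_mul_index (⁅SylowNorm.sylN P, SylowNorm.sylN P⁆ : Subgroup N), ← h1]
  congr 1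
  refine (Finset.sum_subtype (Finset.univ.filter (fun χ : IrrCharacter N =>
    ∀ n ∈ ⁅SylowNorm.sylN P, SylowNorm.sylN P⁆, (χ : N → ℂ) n = (χ : N → ℂ) 1)) (fun θ => ?_)
    (fun χ : IrrCharacter N => charDegree (χ : N → ℂ) ^ 2))
  rw [Finset.mem_filter, SylowNorm.not_dvd_iff P θ]
  exact ⟨fun h => h.2, fun h => ⟨Finset.mem_univ _, h⟩⟩

/-- **The sum of the squares of the degrees prime to `p`.** -/
theorem main [Finite G] {p : ℕ} [Fact p.Prime] (P : Sylow p G) :
    Nat.card (normalizer ((P : Subgroup G) : Set G)) ≤ Nat.card (commutator ↥(P : Subgroup G)) *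
      (∑ᶠ χ : {χ : IrrCharacter G // ¬ p ∣ charDegree (χ : G → ℂ)},
        charDegree (χ.1 : G → ℂ) ^ 2) ∧
    (Nat.card (normalizer ((P : Subgroup G) : Set G)) = Nat.card (commutator ↥(P : Subgroup G)) *
      (∑ᶠ χ : {χ : IrrCharacter G // ¬ p ∣ charDegree (χ : G → ℂ)},
        charDegree (χ.1 : G → ℂ) ^ 2) ↔
      ∃ K : Subgroup G, K.Normal ∧ K ⊓ normalizer ((P : Subgroup G) : Set G) = ⊥ ∧
        K ⊔ normalizer ((P : Subgroup G) : Set G) = ⊤) := by
  classical
  have hpP : p.Prime := Fact.out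
  have := Fintype.ofFinite G
  have := finite_irr (G := G)
  have := Fintype.ofFinite (IrrCharacter G)
  set N := normalizer ((P : Subgroup G) : Set G) with hN
  have := Fintype.ofFinite N
  have := finite_irr (G := N)
  have := Fintype.ofFinite (IrrCharacter N)
  have hPN : (P : Subgroup G) ≤ N := le_normalizer
  have hNi : ¬ p ∣ N.index := fun h =>
    P.not_dvd_index (h.trans (Subgroup.index_dvd_of_le hPN))
  rw [finsum_eq_sum_of_fintype]
  have hsum := sum_normalizer P
  set A := {θ : IrrCharacter N // ¬ p ∣ charDegree (θ : N → ℂ)} with hA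
  set B := {χ : IrrCharacter G // ¬ p ∣ charDegree (χ : G → ℂ)} with hB
  have hex : ∀ θ : A, ∃ χ : B, classInner (fun n : N => (χ.1 : G → ℂ) n) (θ.1 : N → ℂ) ≠ 0 := by
    rintro ⟨θ, hθ⟩
    obtain ⟨χ, h1, h2⟩ := exists_over N hNi θ hθ
    exact ⟨⟨χ, h1⟩, h2⟩
  choose F hF using hex
  have hfib : ∀ χ : B, ∑ θ : A with F θ = χ, charDegree (θ.1 : N → ℂ) ^ 2 =
      ∑ θ ∈ (Finset.univ.filter (fun θ : A => F θ = χ)).map
        (Function.Embedding.subtype _), charDegree (θ : N → ℂ) ^ 2 := by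
    intro χ
    rw [Finset.sum_map]
    rfl
  have hfib2 : ∀ χ : B, ∀ θ ∈ (Finset.univ.filter (fun θ : A => F θ = χ)).map
        (Function.Embedding.subtype _),
        classInner (fun n : N => (χ.1 : G → ℂ) n) (θ : N → ℂ) ≠ 0 := by
    intro χ θ hθ
    rw [Finset.mem_map] at hθ
    obtain ⟨θ', hθ', rfl⟩ := hθ
    rw [Finset.mem_filter] at hθ'
    rw [← hθ'.2]
    exact hF θ'
  have hle : ∀ χ : B, ∑ θ : A with F θ = χ, charDegree (θ.1 : N → ℂ) ^ 2 ≤
      charDegree (χ.1 : G → ℂ) ^ 2 := by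
    intro χ
    rw [hfib]
    exact (fiber N χ.1 _ (hfib2 χ)).1
  have htot : ∑ θ : A, charDegree (θ.1 : N → ℂ) ^ 2 =
      ∑ χ : B, ∑ θ : A with F θ = χ, charDegree (θ.1 : N → ℂ) ^ 2 :=
    (Finset.sum_fiberwise Finset.univ F _).symm
  have hC : 0 < Nat.card (commutator ↥(P : Subgroup G)) := Nat.card_pos
  have hmain : ∑ θ : A, charDegree (θ.1 : N → ℂ) ^ 2 ≤ ∑ χ : B, charDegree (χ.1 : G → ℂ) ^ 2 := by
    rw [htot]
    exact Finset.sum_le_sum fun χ _ => hle χ
  refine ⟨?_, ?_, ?_⟩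
  · rw [hsum]
    exact Nat.mul_le_mul_left _ hmain
  · intro heq
    rw [hsum] at heq
    have heq2 := Nat.eq_of_mul_eq_mul_left hC heq
    rw [htot] at heq2
    have heq3 := (Finset.sum_eq_sum_iff_of_le (fun χ _ => hle χ)).1 heq2
    obtain ⟨K, hK1, hK2, hK3⟩ := SylowNorm.exists_complement_of_extends P (by
      intro θ hθ
      have h1 := heq3 (F ⟨θ, hθ⟩) (Finset.mem_univ _)
      rw [hfib] at h1
      refine ⟨(F ⟨θ, hθ⟩).1, ?_⟩
      refine (fiber N _ _ (hfib2 (F ⟨θ, hθ⟩))).2 h1 θ ?_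
      rw [Finset.mem_map]
      exact ⟨⟨θ, hθ⟩, by simp, rfl⟩)
    exact ⟨K, hK1, hK3, hK2⟩
  · rintro ⟨K, hKn, hK1, hK2⟩
    obtain ⟨π, hπ, hker⟩ := SylowNorm.exists_retraction K N hK2 hK1
    have hπs : Function.Surjective π := fun x => ⟨x, hπ x⟩
    rw [hsum]
    congr 1
    refine Fintype.sum_bijective
      (fun θ : A => (⟨⟨(θ.1 : N → ℂ) ∘ π, isIrr_comp π hπs θ.1.2⟩, by
        rw [PPrimeDeg.charDegree_comp]; exact θ.2⟩ : B)) ⟨?_, ?_⟩ _ _ ?_
    · intro θ θ' h
      have h1 : (θ.1 : N → ℂ) ∘ π = (θ'.1 : N → ℂ) ∘ π := congrArg (fun z : B => (z.1 : G → ℂ)) h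
      apply Subtype.ext
      apply Subtype.ext
      exact hπs.injective_comp_right h1
    · rintro ⟨χ, hχ⟩
      have hKχ := exists_deflation_of_inf_eq_bot P K hK1 χ hχ
      obtain ⟨⟨n, ρ, hρ, hρχ⟩⟩ := Nonempty.intro χ.2
      have hkill : ∀ k ∈ K, ρ k = 1 := by
        intro k hk
        have h1 := hKχ k hk
        rw [← hρχ, Representation.char_one, Cfsg.Agent.Characters.Values.character_eq_finrank_iff] at h1
        exact h1
      let ρ' : Representation ℂ N (Fin n → ℂ) := ρ.comp N.subtype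
      have hρ' : (ρ'.comp π : Representation ℂ G (Fin n → ℂ)) = ρ := by
        ext g : 1
        show ρ ((π g : N) : G) = ρ g
        have h1 : g * ((π g : N) : G)⁻¹ ∈ K := by
          rw [← hker, MonoidHom.mem_ker, map_mul, map_inv, hπ, mul_inv_cancel]
        have h2 := hkill _ h1
        have h3 : ρ g = ρ (g * ((π g : N) : G)⁻¹) * ρ ((π g : N) : G) := by
          rw [← map_mul]; simp
        rw [h3, h2, one_mul]
      have hirr : ρ'.IsIrreducible := by
        refine Deflate.isIrreducible_of_comp π ρ' ?_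
        rw [hρ']
        exact hρ
      refine ⟨⟨⟨ρ'.character, n, ρ', hirr, rfl⟩, ?_⟩, ?_⟩
      · have h1 : charDegree (ρ'.character : N → ℂ) = charDegree (χ : G → ℂ) := by
          rw [← hρχ, Basic.charDegree_of_eq (Representation.char_one ρ'),
            Basic.charDegree_of_eq (Representation.char_one ρ)]
        rw [h1]
        exact hχ
      · apply Subtype.ext
        apply Subtype.ext
        show ρ'.character ∘ π = (χ : G → ℂ)
        rw [← hρχ]
        conv_rhs => rw [← hρ']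
        rfl
    · intro θ
      rw [PPrimeDeg.charDegree_comp]

end Cfsg.Agent.H710.SumSquares
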