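import Cfsg.Agent.H710.VanCount

/-!
# A vanishing element of order `2 p` (helper710)

`vz_of_two_p` : if the Sylow `p`-subgroups of `G` have order `p`, `x` and `t` are commuting elements of
orders `p` and 2, the centraliser of `x * t` has order at most `2 p` and there are more than `2 p`
classes then `x * t` is a `VZ` element.
-/

set_option autoImplicit false
set_option linter.unusedSectionVars false

namespace Cfsg.Agent.H710.TwoP

open Cfsg Subgroup Cfsg.Agent.H713 Cfsg.Agent.H710.VanCount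
open scoped Pointwise

section

variable {G : Type*} [Group G] [Finite G] {p : ℕ} [hp : Fact p.Prime] {x t : G}

theorem orderOf_xt (hp2 : p ≠ 2) (hx : orderOf x = p) (ht : orderOf t = 2) (hxt : Commute x t) :
    orderOf (x * t) = p * 2 := by
  have hcop : (orderOf x).Coprime (orderOf t) := by
    rw [hx, ht]
    exact (Nat.coprime_primes hp.out Nat.prime_two).2 hp2
  rw [hxt.orderOf_mul_eq_mul_orderOf_of_coprime hcop, hx, ht]

theorem xt_pow (hp2 : p ≠ 2) (hx : orderOf x = p) (ht : orderOf t = 2) (hxt : Commute x t) :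
    (x * t) ^ p = t := by
  have h1 : x ^ p = 1 := by rw [← hx]; exact pow_orderOf_eq_one x
  have h2 : t ^ 2 = 1 := by rw [← ht]; exact pow_orderOf_eq_one t
  rw [hxt.mul_pow, h1, one_mul]
  obtain ⟨k, hk⟩ := hp.out.odd_of_ne_two hp2
  rw [hk, pow_succ, pow_mul, h2, one_pow, one_mul]

theorem cent_eq (hp2 : p ≠ 2) (hx : orderOf x = p) (ht : orderOf t = 2) (hxt : Commute x t)
    (hc : Nat.card (centralizer ({x * t} : Set G)) ≤ 2 * p) :
    centralizer ({x * t} : Set G) = zpowers (x * t) := by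
  symm
  apply Subgroup.eq_of_le_of_card_ge
  · rw [zpowers_le, mem_centralizer_singleton_iff]
  · rw [Nat.card_zpowers, orderOf_xt hp2 hx ht hxt]
    omega

/-- the elements of order a power of two commuting with `x` and `t`. -/
theorem two_elt (hp2 : p ≠ 2) (hx : orderOf x = p) (ht : orderOf t = 2) (hxt : Commute x t)
    (hc : Nat.card (centralizer ({x * t} : Set G)) ≤ 2 * p) {y : G} (h1 : Commute y x) (h2 : Commute y t)
    {n : ℕ} (hy : y ^ 2 ^ n = 1) : y = 1 ∨ y = t := by
  classical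
  have h3 : y ∈ centralizer ({x * t} : Set G) := mem_centralizer_singleton_iff.2 (h1.mul_right h2)
  rw [cent_eq hp2 hx ht hxt hc, mem_zpowers_iff_mem_range_orderOf, Finset.mem_image] at h3
  obtain ⟨k, -, rfl⟩ := h3
  rw [← pow_mul] at hy
  have h4 := orderOf_dvd_of_pow_eq_one hy
  rw [orderOf_xt hp2 hx ht hxt] at h4
  have h5 : p ∣ k := by
    have h6 : p ∣ k * 2 ^ n := (Dvd.intro _ rfl).trans h4
    rcases hp.out.dvd_mul.1 h6 with h | h
    · exact h
    · exact absurd ((Nat.prime_dvd_prime_iff_eq hp.out Nat.prime_two).1 (hp.out.dvd_of_dvd_pow h)) hp2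
  obtain ⟨j, rfl⟩ := h5
  have h2' : t ^ 2 = 1 := by rw [← ht]; exact pow_orderOf_eq_one t
  rw [pow_mul, xt_pow hp2 hx ht hxt]
  rcases Nat.even_or_odd' j with ⟨i, rfl | rfl⟩
  · left; rw [pow_mul, h2', one_pow]
  · right; rw [pow_succ, pow_mul, h2', one_pow, one_mul]

/-- the involutions commuting with `x` are conjugate in the centraliser of `x`. -/
theorem conj_inv (hp2 : p ≠ 2) (hx : orderOf x = p) (ht : orderOf t = 2) (hxt : Commute x t)
    (hc : Nat.card (centralizer ({x * t} : Set G)) ≤ 2 * p) {u : G} (hu : orderOf u = 2)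
    (hxu : Commute x u) : ∃ c : G, Commute c x ∧ c * t * c⁻¹ = u := by
  classical
  have : Fact (Nat.Prime 2) := ⟨Nat.prime_two⟩
  let C : Subgroup G := centralizer ({x} : Set G)
  have memC : ∀ y : G, y ∈ C ↔ Commute y x := fun y => mem_centralizer_singleton_iff
  let tC : C := ⟨t, (memC t).2 hxt.symm⟩
  let uC : C := ⟨u, (memC u).2 hxu.symm⟩
  have htC : orderOf tC = 2 := by rw [← Subgroup.orderOf_coe]; exact ht
  have huC : orderOf uC = 2 := by rw [← Subgroup.orderOf_coe]; exact hu
  have hpg : ∀ y : C, orderOf y = 2 → IsPGroup 2 (zpowers y) := fun y hy =>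
    IsPGroup.of_card (n := 1) (by rw [Nat.card_zpowers, hy, pow_one])
  obtain ⟨T, hT⟩ := (hpg tC htC).exists_le_sylow
  obtain ⟨U, hU⟩ := (hpg uC huC).exists_le_sylow
  have htT : tC ∈ T := hT (mem_zpowers tC)
  have huU : uC ∈ U := hU (mem_zpowers uC)
  have key : ∀ y : C, y ∈ T → y * tC = tC * y → y = 1 ∨ y = tC := by
    intro y hy hyt
    obtain ⟨n, hn⟩ := T.isPGroup' ⟨y, hy⟩
    have h1 : (y : G) ^ 2 ^ n = 1 := by
      have := congrArg (fun z : T => ((z : C) : G)) hn
      simpa using this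
    rcases two_elt hp2 hx ht hxt hc ((memC y).1 y.2) (congrArg Subtype.val hyt) h1 with h | h
    · exact Or.inl (Subtype.ext h)
    · exact Or.inr (Subtype.ext h)
  -- `t` is central in `T`
  have hcen : ∀ y : C, y ∈ T → y * tC = tC * y := by
    have : Nontrivial T := ⟨⟨⟨tC, htT⟩, 1, fun h => by
      have h1 : tC = 1 := congrArg Subtype.val h
      rw [h1, orderOf_one] at htC
      omega⟩⟩
    have hZ := T.isPGroup'.center_nontrivial
    obtain ⟨z, hz⟩ := exists_ne (1 : center T)
    have hz1 : ∀ y : T, (y : T) * (z : T) = z * y := fun y => mem_center_iff.1 z.2 y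
    have hz2 : ((z : T) : C) = tC := by
      rcases key (z : T) (z : T).2 (congrArg Subtype.val (hz1 ⟨tC, htT⟩)).symm with h | h
      · exact absurd (Subtype.ext (Subtype.ext h)) hz
      · exact h
    intro y hy
    have h := congrArg Subtype.val (hz1 ⟨y, hy⟩)
    change y * ((z : T) : C) = ((z : T) : C) * y at h
    rwa [hz2] at h
  obtain ⟨c, hcU⟩ := MulAction.exists_smul_eq C T U
  rw [← hcU] at huU
  have h1 : c⁻¹ * uC * c ∈ T := by
    have h2 : uC ∈ ((c • T : Sylow 2 C) : Subgroup C) := huU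
    rw [Sylow.coe_subgroup_smul, Subgroup.mem_pointwise_smul_iff_inv_smul_mem] at h2
    have e : (MulAut.conj c)⁻¹ • uC = c⁻¹ * uC * c := by
      rw [MulAut.smul_def, MulAut.conj_inv_apply]
    rw [e] at h2
    exact h2
  rcases key _ h1 (hcen _ h1) with h2 | h2
  · exfalso
    have h3 : uC = 1 := by
      calc uC = c * (c⁻¹ * uC * c) * c⁻¹ := by group
        _ = 1 := by rw [h2]; group
    rw [h3, orderOf_one] at huC
    omega
  · refine ⟨c, (memC c).1 c.2, ?_⟩
    have h3 : c * tC * c⁻¹ = uC := by rw [← h2]; group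
    exact congrArg Subtype.val h3

/-- Two subgroups of order `p` are conjugate. -/
theorem exists_conj_pow (hG : (Nat.card G).factorization p = 1) (hx : orderOf x = p) {y : G}
    (hy : orderOf y = p) : ∃ (g : G) (k : ℕ), g * y * g⁻¹ = x ^ k := by
  classical
  have hc : ∀ z : G, orderOf z = p → Nat.card (zpowers z) = p ^ (Nat.card G).factorization p := by
    intro z hz
    rw [Nat.card_zpowers, hz, hG, pow_one]
  let P : Sylow p G := Sylow.ofCard (zpowers x) (hc x hx)
  let Q : Sylow p G := Sylow.ofCard (zpowers y) (hc y hy)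
  obtain ⟨g, hg⟩ := MulAction.exists_smul_eq G Q P
  have h1 : g * y * g⁻¹ ∈ zpowers x := by
    have h2 : MulAut.conj g • y ∈ MulAut.conj g • (zpowers y) :=
      Subgroup.smul_mem_pointwise_smul _ _ _ (mem_zpowers y)
    have h3 : MulAut.conj g • (zpowers y) = zpowers x := by
      have h4 : ((g • Q : Sylow p G) : Subgroup G) = (P : Subgroup G) := by rw [hg]
      rw [Sylow.coe_subgroup_smul] at h4
      exact h4
    rw [h3, MulAut.smul_def, MulAut.conj_apply] at h2
    exact h2
  rw [mem_zpowers_iff_mem_range_orderOf, Finset.mem_image] at h1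
  obtain ⟨k, -, hk⟩ := h1
  exact ⟨g, k, hk.symm⟩

/-- **A vanishing element of order `2 p`.** -/
theorem vz_of_two_p (hp2 : p ≠ 2) (hG : (Nat.card G).factorization p = 1) (hx : orderOf x = p)
    (ht : orderOf t = 2) (hxt : Commute x t)
    (hc : Nat.card (centralizer ({x * t} : Set G)) ≤ 2 * p) (hk : 2 * p < Nat.card (ConjClasses G)) :
    VZ G (x * t) := by
  refine vz_of_card _ (lt_of_le_of_lt hc hk) fun α => ?_
  obtain ⟨g, k, hg⟩ := exists_conj_pow (y := α x) hG hx (by rw [MulEquiv.orderOf_eq, hx])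
  have hk1 : ¬ p ∣ k := by
    rintro ⟨j, rfl⟩
    rw [pow_mul, ← hx, pow_orderOf_eq_one, one_pow] at hg
    have h1 : α x = 1 := by
      calc α x = g⁻¹ * (g * α x * g⁻¹) * g := by group
        _ = 1 := by rw [hg]; group
    have h2 : x = 1 := α.injective (by rw [h1, map_one])
    rw [h2, orderOf_one] at hx
    exact hp.out.one_lt.ne hx
  -- the image of `t`
  have hu : orderOf (g * α t * g⁻¹) = 2 := by
    have e : g * α t * g⁻¹ = MulAut.conj g (α t) := by rw [MulAut.conj_apply]
    rw [e, MulEquiv.orderOf_eq, MulEquiv.orderOf_eq, ht]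
  have hxk : Commute (x ^ k) (g * α t * g⁻¹) := by
    rw [← hg]
    have h1 : Commute (MulAut.conj g (α x)) (MulAut.conj g (α t)) := (hxt.map α.toMonoidHom).map (MulAut.conj g).toMonoidHom
    rwa [MulAut.conj_apply, MulAut.conj_apply] at h1
  have hxu : Commute x (g * α t * g⁻¹) := by
    have hcop : Nat.Coprime k (orderOf x) := by
      rw [hx]
      exact ((Nat.Prime.coprime_iff_not_dvd hp.out).2 hk1).symm
    obtain ⟨m, hm⟩ := exists_pow_eq_self_of_coprime hcop
    rw [← hm]
    exact hxk.pow_left m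
  obtain ⟨c, hc1, hc2⟩ := conj_inv hp2 hx ht hxt hc hu hxu
  -- the exponent
  obtain ⟨l, hl1, hl2⟩ : ∃ l : ℕ, x ^ l = x ^ k ∧ t ^ l = t := by
    have h2' : t ^ 2 = 1 := by rw [← ht]; exact pow_orderOf_eq_one t
    have hxp : x ^ p = 1 := by rw [← hx]; exact pow_orderOf_eq_one x
    rcases Nat.even_or_odd k with h | h
    · refine ⟨k + p, by rw [pow_add, hxp, mul_one], ?_⟩
      have h3 : Odd (k + p) := h.add_odd (hp.out.odd_of_ne_two hp2)
      obtain ⟨j, hj⟩ := h3
      rw [hj, pow_succ, pow_mul, h2', one_pow, one_mul]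
    · refine ⟨k, rfl, ?_⟩
      obtain ⟨j, hj⟩ := h
      rw [hj, pow_succ, pow_mul, h2', one_pow, one_mul]
  refine ⟨l, ?_⟩
  have h1 : c * (x * t) ^ l * c⁻¹ = g * α (x * t) * g⁻¹ := by
    rw [hxt.mul_pow, hl1, hl2, map_mul]
    have e1 : c * x ^ k * c⁻¹ = x ^ k := by
      rw [(hc1.pow_right k).eq, mul_inv_cancel_right]
    calc c * (x ^ k * t) * c⁻¹ = (c * x ^ k * c⁻¹) * (c * t * c⁻¹) := by group
      _ = x ^ k * (g * α t * g⁻¹) := by rw [e1, hc2]
      _ = g * (α x * α t) * g⁻¹ := by rw [← hg]; group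
  have h2 : IsConj ((x * t) ^ l) (g * α (x * t) * g⁻¹) := isConj_iff.2 ⟨c, h1⟩
  have h3 : IsConj (α (x * t)) (g * α (x * t) * g⁻¹) := isConj_iff.2 ⟨g, rfl⟩
  exact h2.trans h3.symm

end

end Cfsg.Agent.H710.TwoP
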