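import Cfsg.Agent.H710.Ltwo
import Cfsg.Agent.OddCyclic.FFBasic
import Cfsg.Agent.ClassicalGeometry.NonsplitTorus

/-!
# `L2` from commuting homomorphisms of `SL₂(q)`, `q ≥ 8` even (helper710)

* `exists_comp` : `SL₂(q)`, `q ≥ 8` even, has an element whose order is odd and composite;
* `exists_order_add_one`: elements of order `q + 1`;
* `injective_of_ne` : a nontrivial homomorphism from `SL₂(q)`, `q ≥ 4` even, is injective;
* `l2_of_pair` : commuting homomorphisms `SL₂(E) → Y`, `SL₂(F) → Y` (even characteristic), nontrivial,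
  `|F| ≥ 8`: `L2 Y`;
* `l2_of_comp` : an involution commuting with `SL₂(F)`, `|F| ≥ 8`.
-/

set_option autoImplicit false

namespace Cfsg.Agent.H710.SLTwo

open Matrix

/-- the diagonal homomorphism -/
def diag (F : Type*) [Field F] : Fˣ →* SpecialLinearGroup (Fin 2) F where
  toFun c := ⟨!![(c : F), 0; 0, ((c⁻¹ : Fˣ) : F)], by simp [Matrix.det_fin_two]⟩
  map_one' := by
    apply Subtype.ext
    ext i j
    fin_cases i <;> fin_cases j <;> simp
  map_mul' c d := by
    apply Subtype.ext
    change !![((c * d : Fˣ) : F), 0; 0, (((c * d)⁻¹ : Fˣ) : F)] = !![(c : F), 0; 0, ((c⁻¹ : Fˣ) : F)] * !![(d : F), 0; 0, ((d⁻¹ : Fˣ) : F)]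
    rw [Matrix.mul_fin_two]
    simp [mul_comm]

theorem diag_val (F : Type*) [Field F] (c : Fˣ) :
    (diag F c : Matrix (Fin 2) (Fin 2) F) = !![(c : F), 0; 0, ((c⁻¹ : Fˣ) : F)] := rfl

theorem diag_injective (F : Type*) [Field F] : Function.Injective (diag F) := by
  intro c d h
  have h1 := congrArg (fun g : SpecialLinearGroup (Fin 2) F => (g : Matrix (Fin 2) (Fin 2) F) 0 0) h
  simp only [diag_val] at h1
  exact Units.ext (by simpa using h1)

variable {F : Type*} [Field F] [Fintype F] [CharP F 2]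

theorem card_eq (F : Type*) [Field F] [Fintype F] [CharP F 2] : ∃ f : ℕ, 0 < f ∧ Fintype.card F = 2 ^ f := by
  obtain ⟨n, -, hn⟩ := FiniteField.card F 2
  exact ⟨n, n.2, hn⟩

theorem exists_order_add_one (F : Type*) [Field F] [Fintype F] :
    ∃ a : SpecialLinearGroup (Fin 2) F, orderOf a = Fintype.card F + 1 := by
  obtain ⟨a, -, -, h, -⟩ := Cfsg.Agent.ClassicalGeometry.NonsplitTorus.exists_torus (F := F)
  exact ⟨a, h⟩

theorem exists_order_sub_one (F : Type*) [Field F] [Fintype F] :
    ∃ a : SpecialLinearGroup (Fin 2) F, orderOf a = Fintype.card F - 1 := by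
  classical
  obtain ⟨c, hc⟩ := IsCyclic.exists_generator (α := Fˣ)
  refine ⟨diag F c, ?_⟩
  rw [orderOf_injective _ (diag_injective F), orderOf_eq_card_of_forall_mem_zpowers hc, Nat.card_eq_fintype_card,
    Fintype.card_units]

/-- an element of odd composite order -/
theorem exists_comp (h8 : 8 ≤ Fintype.card F) :
    ∃ y : SpecialLinearGroup (Fin 2) F, Odd (orderOf y) ∧ y ≠ 1 ∧ ¬ (orderOf y).Prime := by
  obtain ⟨f, hf0, hf⟩ := card_eq F
  rcases Nat.even_or_odd' f with ⟨e, he | he⟩
  · obtain ⟨y, hy⟩ := exists_order_sub_one F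
    have h2 : 2 ≤ e := by
      by_contra hcon
      push Not at hcon
      have : f ≤ 2 := by omega
      have := Nat.pow_le_pow_right (show 1 ≤ 2 by norm_num) this
      omega
    have h3 : 4 ≤ 2 ^ e := by
      calc 4 = 2 ^ 2 := by norm_num
        _ ≤ 2 ^ e := Nat.pow_le_pow_right (by norm_num) h2
    have h4 : orderOf y = (2 ^ e - 1) * (2 ^ e + 1) := by
      rw [hy, hf, he, pow_mul']
      obtain ⟨m, hm⟩ := Nat.exists_eq_add_of_le h3
      rw [hm]
      have : 4 + m - 1 = 3 + m := by omega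
      rw [this]
      have h5 : (4 + m) ^ 2 = (3 + m) * (4 + m + 1) + 1 := by ring
      rw [h5]
      rfl
    have he2 : Even (2 ^ e) := (even_two).pow_of_ne_zero (by omega)
    refine ⟨y, ?_, ?_, ?_⟩
    · rw [h4]
      refine Odd.mul ?_ he2.add_one
      exact Nat.Even.sub_odd (by omega) he2 odd_one
    · intro h1
      rw [h1, orderOf_one] at h4
      have := Nat.eq_one_of_mul_eq_one_left h4.symm
      omega
    · rw [h4]
      exact Nat.not_prime_mul (by omega) (by omega)
  · obtain ⟨y, hy⟩ := exists_order_add_one F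
    have h9 : Fintype.card F + 1 = 3 * ((Fintype.card F + 1) / 3) := by
      refine (Nat.mul_div_cancel' ?_).symm
      rw [hf, he, pow_succ, pow_mul]
      have h1 : (2 ^ 2) ^ e % 3 = 1 := by
        rw [Nat.pow_mod]
        norm_num
      omega
    refine ⟨y, ?_, ?_, ?_⟩
    · rw [hy, hf]
      exact ((even_two).pow_of_ne_zero hf0.ne').add_one
    · intro h1
      rw [h1, orderOf_one] at hy
      omega
    · rw [hy, h9]
      exact Nat.not_prime_mul (by norm_num) (by omega)

/-- a nontrivial homomorphism is injective -/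
theorem injective_of_ne (h4 : 4 ≤ Fintype.card F) {Y : Type*} [Group Y] (φ : SpecialLinearGroup (Fin 2) F →* Y)
    {g : SpecialLinearGroup (Fin 2) F} (hg : φ g ≠ 1) : Function.Injective φ := by
  have hs := Cfsg.Agent.OddCyclic.FFBasic.isSimpleGroup_sl2 h4
  rw [← MonoidHom.ker_eq_bot_iff]
  rcases hs.eq_bot_or_eq_top_of_normal φ.ker inferInstance with h1 | h1
  · exact h1
  · exact absurd (show g ∈ φ.ker by rw [h1]; trivial) (by rw [MonoidHom.mem_ker]; exact hg)

/-- an element of even order commuting with `SL₂(F)` -/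
theorem l2_of_comp (h8 : 8 ≤ Fintype.card F) {Y : Type*} [Group Y] (φ : SpecialLinearGroup (Fin 2) F →* Y)
    {g : SpecialLinearGroup (Fin 2) F} (hg : φ g ≠ 1) {x : Y} (hx0 : orderOf x ≠ 0) (hx : 2 ∣ orderOf x)
    (hc : ∀ g, Commute x (φ g)) : L2 Y := by
  have hi := injective_of_ne (by omega) φ hg
  obtain ⟨y, h1, h2, h3⟩ := exists_comp h8
  refine L2.of_comp (hc y) hx0 hx (by rwa [orderOf_injective φ hi]) ?_ (by rwa [orderOf_injective φ hi])
  intro h
  exact h2 (hi (by rw [h, map_one]))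

end Cfsg.Agent.H710.SLTwo
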