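import Mathlib

/-!
# Conjugacy classes of `V ⋊ G`, `V` abelian of order coprime to `|G|` (helper710)

* `exists_conj_commuting` : every element of `X = V G` is conjugate by an element of `V` to a
  product `v h` of commuting elements `v ∈ V`, `h ∈ G`.
* `card_conjClasses` : `k(X) = ∑ k(C_G(s))`, the sum over representatives `s` of the `G`-orbits
  on `V`.
-/

set_option autoImplicit false

namespace Cfsg.Agent.H710.ClassCount

open Subgroup

universe u

/-- Fitting's decomposition for one automorphism of coprime order. -/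
theorem exists_fixed_mul {V : Type u} [CommGroup V] [Finite V] (α : MulAut V)
    (hcop : (orderOf α).Coprime (Nat.card V)) (v : V) :
    ∃ c w : V, α c = c ∧ v = c * (w * (α w)⁻¹) := by
  classical
  let δ : V →* V :=
    { toFun := fun w => w * (α w)⁻¹
      map_one' := by simp
      map_mul' := fun a b => by
        rw [map_mul, mul_inv, mul_mul_mul_comm] }
  have hker : ∀ w, w ∈ δ.ker ↔ α w = w := by
    intro w
    rw [MonoidHom.mem_ker]
    show w * (α w)⁻¹ = 1 ↔ _
    rw [mul_inv_eq_one, eq_comm]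
  -- the norm
  have hn0 : 0 < orderOf α := by
    have : Finite (MulAut V) := inferInstance
    exact orderOf_pos α
  let nm : V → V := fun w => ∏ i ∈ Finset.range (orderOf α), (α ^ i) w
  have hnm_mul : ∀ a b, nm (a * b) = nm a * nm b := by
    intro a b
    show ∏ i ∈ Finset.range (orderOf α), (α ^ i) (a * b) = _
    simp only [map_mul]
    exact Finset.prod_mul_distrib
  have hnm_inv : ∀ a, nm a⁻¹ = (nm a)⁻¹ := by
    intro a
    show ∏ i ∈ Finset.range (orderOf α), (α ^ i) a⁻¹ = _
    simp only [map_inv]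
    exact Finset.prod_inv_distrib _
  have hnm_act : ∀ a, nm (α a) = nm a := by
    intro a
    show ∏ i ∈ Finset.range (orderOf α), (α ^ i) (α a) = ∏ i ∈ Finset.range (orderOf α), (α ^ i) a
    have h1 : ∀ i, (α ^ i) (α a) = (α ^ (i + 1)) a := by
      intro i
      rw [pow_succ]
      rfl
    simp only [h1]
    have h2 := Finset.prod_range_succ (fun i => (α ^ i) a) (orderOf α)
    have h3 := Finset.prod_range_succ' (fun i => (α ^ i) a) (orderOf α)
    rw [h2] at h3
    simp only [pow_orderOf_eq_one, pow_zero, MulAut.one_apply] at h3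
    exact (mul_right_cancel h3).symm
  have hdisj : Disjoint δ.ker δ.range := by
    rw [Subgroup.disjoint_def]
    intro c hc hc2
    obtain ⟨w, rfl⟩ := hc2
    have h1 : nm (δ w) = 1 := by
      show nm (w * (α w)⁻¹) = 1
      rw [hnm_mul, hnm_inv, hnm_act, mul_inv_cancel]
    have h2 : α (δ w) = δ w := (hker _).1 hc
    have h3 : ∀ i : ℕ, (α ^ i) (δ w) = δ w := by
      intro i
      induction i with
      | zero => simp
      | succ i ih => rw [pow_succ, MulAut.mul_apply, h2, ih]
    have h4 : nm (δ w) = (δ w) ^ orderOf α := by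
      show ∏ i ∈ Finset.range (orderOf α), (α ^ i) (δ w) = _
      simp only [h3]
      rw [Finset.prod_const, Finset.card_range]
    rw [h1] at h4
    have h5 : orderOf (δ w) ∣ orderOf α := orderOf_dvd_of_pow_eq_one h4.symm
    have h6 : orderOf (δ w) ∣ Nat.card V := orderOf_dvd_natCard _
    have h7 : orderOf (δ w) ∣ 1 := by rw [← hcop]; exact Nat.dvd_gcd h5 h6
    exact orderOf_eq_one_iff.1 (Nat.dvd_one.1 h7)
  have hcard : Nat.card δ.ker * Nat.card δ.range = Nat.card V := by
    rw [← δ.ker.card_mul_index, Subgroup.index_ker]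
  have hc := Subgroup.isComplement'_of_card_mul_and_disjoint hcard hdisj
  have htop : v ∈ δ.ker ⊔ δ.range := by rw [hc.sup_eq_top]; exact mem_top v
  rw [mem_sup] at htop
  obtain ⟨c, hc1, d, ⟨w, rfl⟩, he⟩ := htop
  exact ⟨c, w, (hker c).1 hc1, he.symm⟩

variable {X : Type u} [Group X] [Finite X] (V : Subgroup X) [V.Normal]
  (hab : ∀ a ∈ V, ∀ b ∈ V, a * b = b * a)

include hab in
/-- Every element of the coset `V h`, `h` of order prime to `|V|`, is conjugate under `V` to an
element `c h` with `c ∈ V` commuting with `h`. -/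
theorem exists_conj_mul {h : X} (hcop : (orderOf h).Coprime (Nat.card V)) {v : X} (hv : v ∈ V) :
    ∃ w ∈ V, ∃ c ∈ V, c * h = h * c ∧ w * (v * h) * w⁻¹ = c * h := by
  let _ : CommGroup V := { (inferInstance : Group V) with
    mul_comm := fun x y => Subtype.ext (hab x x.2 y y.2) }
  let α : MulAut V := MulAut.conjNormal h
  have hα : ∀ w : V, ((α w : V) : X) = h * w * h⁻¹ := fun w => MulAut.conjNormal_apply h w
  have hord : orderOf α ∣ orderOf h := orderOf_map_dvd (MulAut.conjNormal (H := V)) h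
  obtain ⟨c, w, hc, hw⟩ := exists_fixed_mul α (Nat.Coprime.coprime_dvd_left hord hcop) ⟨v, hv⟩
  have hc' : h * c * h⁻¹ = (c : X) := by rw [← hα, hc]
  have hch : (c : X) * h = h * c := by
    rw [mul_inv_eq_iff_eq_mul] at hc'
    exact hc'.symm
  have hw' : v = c * (w * (h * w * h⁻¹)⁻¹) := by
    have := congrArg Subtype.val hw
    rw [← hα]
    exact this
  refine ⟨(w : X)⁻¹, inv_mem w.2, c, c.2, hch, ?_⟩
  have hcw : (c : X) * w = w * c := hab c c.2 w w.2
  rw [hw']
  have h1 : (w : X)⁻¹ * (c * (w * (h * w * h⁻¹)⁻¹) * h) * (w : X)⁻¹⁻¹ =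
      (w : X)⁻¹ * (c * w) * h := by group
  rw [h1, hcw]
  group

variable (G : Subgroup X) (hGV : IsComplement' V G) (hcop : (Nat.card V).Coprime (Nat.card G))

include hab hGV hcop in
/-- **Classes of `V ⋊ G`.** -/
theorem card_conjClasses (S : Finset X) (hSV : ∀ s ∈ S, s ∈ V)
    (hrep : ∀ v ∈ V, ∃! s, s ∈ S ∧ ∃ g ∈ G, g * v * g⁻¹ = s) :
    Nat.card (ConjClasses X) =
      ∑ s ∈ S, Nat.card (ConjClasses ↥(G ⊓ centralizer ({s} : Set X))) := by
  classical
  have hmul : ∀ x : X, ∃ v ∈ V, ∃ g ∈ G, v * g = x := by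
    intro x
    have h1 : x ∈ V ⊔ G := by rw [hGV.sup_eq_top]; exact mem_top x
    rw [mem_sup_of_normal_left] at h1
    exact h1
  have hint : ∀ x : X, x ∈ V → x ∈ G → x = 1 := by
    intro x h1 h2
    have h3 : x ∈ V ⊓ G := ⟨h1, h2⟩
    rw [hGV.disjoint.eq_bot] at h3
    exact h3
  -- the exponent
  obtain ⟨n, hn1, hn0⟩ := Nat.chineseRemainder hcop 1 0
  have hpowV : ∀ v ∈ V, v ^ n = v := by
    intro v hv
    have h1 : orderOf v ∣ Nat.card V := by
      rw [← Subgroup.orderOf_mk v hv]; exact orderOf_dvd_natCard _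
    have h2 : v ^ n = v ^ 1 := pow_eq_pow_iff_modEq.2 (hn1.of_dvd h1)
    rw [h2, pow_one]
  have hpowG : ∀ g ∈ G, g ^ n = 1 := by
    intro v hv
    have h1 : orderOf v ∣ Nat.card G := by
      rw [← Subgroup.orderOf_mk v hv]; exact orderOf_dvd_natCard _
    have h2 : v ^ n = v ^ 0 := pow_eq_pow_iff_modEq.2 (hn0.of_dvd h1)
    rw [h2, pow_zero]
  have hpow : ∀ v ∈ V, ∀ h ∈ G, v * h = h * v → (v * h) ^ n = v := by
    intro v hv h hh hc
    have : Commute v h := hc
    rw [this.mul_pow, hpowV v hv, hpowG h hh, mul_one]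
  let F : (s : S) → ConjClasses ↥(G ⊓ centralizer ({(s : X)} : Set X)) → ConjClasses X :=
    fun s => Quotient.lift (fun h => ConjClasses.mk ((s : X) * (h : X))) (by
      intro a b hab'
      have hab2 : IsConj a b := hab'
      obtain ⟨k, hk⟩ := isConj_iff.1 hab2
      show ConjClasses.mk ((s : X) * (a : X)) = ConjClasses.mk ((s : X) * (b : X))
      rw [ConjClasses.mk_eq_mk_iff_isConj, isConj_iff]
      refine ⟨k, ?_⟩
      have h1 : (k : X) * s = s * k := mem_centralizer_singleton_iff.1 k.2.2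
      have h2 : (k : X) * a * (k : X)⁻¹ = b := by rw [← hk]; simp
      rw [← h2]
      calc (k : X) * (s * a) * (k : X)⁻¹ = (k * s) * a * (k : X)⁻¹ := by group
        _ = s * (k * a * (k : X)⁻¹) := by rw [h1]; group)
  have hF : ∀ (s : S) (h : ↥(G ⊓ centralizer ({(s : X)} : Set X))),
      F s (ConjClasses.mk h) = ConjClasses.mk ((s : X) * (h : X)) := fun s h => rfl
  let Φ : (Σ s : S, ConjClasses ↥(G ⊓ centralizer ({(s : X)} : Set X))) → ConjClasses X :=
    fun z => F z.1 z.2
  have hbij : Function.Bijective Φ := by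
    constructor
    · rintro ⟨s, a⟩ ⟨s', a'⟩ he
      obtain ⟨h, rfl⟩ := ConjClasses.exists_rep a
      obtain ⟨h', rfl⟩ := ConjClasses.exists_rep a'
      have he2 : ConjClasses.mk ((s : X) * (h : X)) = ConjClasses.mk ((s' : X) * (h' : X)) := he
      rw [ConjClasses.mk_eq_mk_iff_isConj, isConj_iff] at he2
      obtain ⟨x, hx⟩ := he2
      have hsh : (s : X) * h = h * s := (mem_centralizer_singleton_iff.1 h.2.2).symm
      have hsh' : (s' : X) * h' = h' * s' := (mem_centralizer_singleton_iff.1 h'.2.2).symm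
      have h1 : x * s * x⁻¹ = s' := by
        have h2 := congrArg (· ^ n) hx
        simp only [conj_pow] at h2
        rw [hpow s (hSV s s.2) h h.2.1 hsh, hpow s' (hSV s' s'.2) h' h'.2.1 hsh'] at h2
        exact h2
      have h2 : x * h * x⁻¹ = h' := by
        have h3 : (x * s * x⁻¹) * (x * h * x⁻¹) = s' * h' := by rw [← hx]; group
        rw [h1] at h3
        exact mul_left_cancel h3
      obtain ⟨w, hw, g, hg, rfl⟩ := hmul x
      have hgs : g * s * g⁻¹ = s' := by
        have h3 : g * s * g⁻¹ ∈ V := ‹V.Normal›.conj_mem s (hSV s s.2) g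
        have h4 : w * (g * s * g⁻¹) * w⁻¹ = s' := by rw [← h1]; group
        rw [hab w hw _ h3] at h4
        rw [← h4]; group
      have hss : (s : X) = s' := by
        obtain ⟨t, -, ht⟩ := hrep s (hSV s s.2)
        have h3 := ht s ⟨s.2, 1, one_mem G, by simp⟩
        have h4 := ht s' ⟨s'.2, g, hg, hgs⟩
        rw [h3, h4]
      have hss' : s = s' := Subtype.ext hss
      subst hss'
      have hgh : g * h * g⁻¹ = h' := by
        have h3 : g * h * g⁻¹ ∈ G := mul_mem (mul_mem hg h.2.1) (inv_mem hg)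
        have h4 : g * h * g⁻¹ = w⁻¹ * h' * w := by rw [← h2]; group
        have h5 : (g * h * g⁻¹) * (h' : X)⁻¹ = 1 := by
          apply hint
          · rw [h4]
            have h6 : w⁻¹ * h' * w * (h' : X)⁻¹ = w⁻¹ * (h' * w * (h' : X)⁻¹) := by group
            rw [h6]
            exact mul_mem (inv_mem hw) (‹V.Normal›.conj_mem w hw _)
          · exact mul_mem h3 (inv_mem h'.2.1)
        rwa [mul_inv_eq_one] at h5
      have hgc : g ∈ centralizer ({(s : X)} : Set X) := by
        rw [mem_centralizer_singleton_iff]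
        rw [mul_inv_eq_iff_eq_mul] at hgs
        exact hgs
      have : ConjClasses.mk h = ConjClasses.mk h' := by
        rw [ConjClasses.mk_eq_mk_iff_isConj, isConj_iff]
        exact ⟨⟨g, hg, hgc⟩, Subtype.ext hgh⟩
      rw [this]
    · intro C
      obtain ⟨x, rfl⟩ := ConjClasses.exists_rep C
      obtain ⟨v, hv, h, hh, rfl⟩ := hmul x
      have hcop2 : (orderOf h).Coprime (Nat.card V) := by
        have h1 : orderOf h ∣ Nat.card G := by
          rw [← Subgroup.orderOf_mk h hh]; exact orderOf_dvd_natCard _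
        exact Nat.Coprime.coprime_dvd_left h1 hcop.symm
      obtain ⟨w, hw, c, hc, hch, he⟩ := exists_conj_mul V hab hcop2 hv
      obtain ⟨s, ⟨hs, g, hg, hgs⟩, -⟩ := hrep c hc
      have hmem : g * h * g⁻¹ ∈ G ⊓ centralizer ({s} : Set X) := by
        refine ⟨(show g * h * g⁻¹ ∈ G from G.mul_mem (G.mul_mem hg hh) (G.inv_mem hg)), ?_⟩
        have h1 : g * h * g⁻¹ * s = s * (g * h * g⁻¹) := by
          rw [← hgs]
          calc g * h * g⁻¹ * (g * c * g⁻¹) = g * (h * c) * g⁻¹ := by group
            _ = g * (c * h) * g⁻¹ := by rw [hch]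
            _ = _ := by group
        exact mem_centralizer_singleton_iff.2 h1
      refine ⟨⟨⟨s, hs⟩, ConjClasses.mk ⟨g * h * g⁻¹, hmem⟩⟩, ?_⟩
      show ConjClasses.mk (s * (g * h * g⁻¹)) = ConjClasses.mk (v * h)
      rw [ConjClasses.mk_eq_mk_iff_isConj]
      have h1 : IsConj (v * h) (c * h) := isConj_iff.2 ⟨w, he⟩
      have h2 : IsConj (c * h) (s * (g * h * g⁻¹)) := isConj_iff.2 ⟨g, by rw [← hgs]; group⟩
      exact (h1.trans h2).symm
  rw [← Nat.card_eq_of_bijective Φ hbij, Nat.card_sigma]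
  exact Finset.sum_coe_sort S (fun s => Nat.card (ConjClasses ↥(G ⊓ centralizer ({s} : Set X))))

end Cfsg.Agent.H710.ClassCount
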