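import Cfsg.Agent.H713.Spor.Tool
import Cfsg.Agent.HKS.CosetTwo
import Cfsg.Agent.CharDeep.PowerDegrees
import Cfsg.Agent.Characters.GaloisIrr

/-!
# Characters vanishing outside of a normal subgroup of index two (helper710)

* `exists_zero_off` : if some class of `N`, `|G : N| = 2`, is not invariant under `G` then some
  irreducible character of `G` vanishes on `G ∖ N`.
* `not_star_of_half` : the failure of the hypothesis of S4943 for an almost simple group with a socle of
  index two, in case that the normalizer of the Sylow `p`-subgroup is a full Frobenius group.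
* `Row.of_half` : the row of S4943.
-/

set_option autoImplicit false
set_option linter.unusedSectionVars false

namespace Cfsg.Agent.H710.OutVan

open Cfsg Cfsg.Agent.Characters.Core Cfsg.Agent.H713 Cfsg.Agent.H713.Count Cfsg.Agent.H665.NoPQ

universe u v

variable {G : Type*} [Group G]

/-- A character that vanishes outside of a normal subgroup of index two. -/
theorem exists_zero_off [Finite G] (N : Subgroup G) [N.Normal] (hN : N.index = 2) {x : N} {u : G}
    (h : ¬ IsConj x (MulAut.conjNormal u x)) : ∃ χ : IrrCharacter G, ∀ y ∉ N, (χ : G → ℂ) y = 0 := by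
  classical
  have := Fintype.ofFinite G
  have := Fintype.ofFinite N
  have h1 : ∃ θ : N → ℂ, IsIrrCharacter N θ ∧ θ x ≠ θ (MulAut.conjNormal u x) := by
    by_contra hcon
    push Not at hcon
    exact h (Cfsg.Agent.Characters.GaloisIrr.isConj_of_forall_irr hcon)
  obtain ⟨θ, hθ, hne⟩ := h1
  obtain ⟨χ, hχ, hc⟩ := Cfsg.Agent.CharDeep.PowerDegrees.exists_irr_over N hθ
  refine ⟨⟨χ, hχ⟩, fun y hy => ?_⟩
  by_contra hy0
  change χ y ≠ 0 at hy0
  have h2 := Cfsg.Agent.HKS.CosetTwo.isIrr_restrict hN hχ hy hy0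
  have h3 : (fun d : N => χ d) = θ := by
    by_contra hcon
    exact hc (classInner_irr_ne h2 hθ hcon)
  apply hne
  rw [← h3]
  change χ x = χ (u * x * u⁻¹)
  exact (isIrr_isClassFunction hχ x u).symm

/-- The conjugation of powers. -/
theorem conj_pow' {p : ℕ} [hp : Fact p.Prime] {x u : G} (hx : x ^ p = 1) {g : ZMod p}
    (hu : u * x * u⁻¹ = x ^ g.val) (k : ℕ) : u ^ k * x * (u ^ k)⁻¹ = x ^ (g ^ k).val := by
  induction k with
  | zero => rw [pow_zero, pow_zero, one_mul, inv_one, mul_one, ZMod.val_one, pow_one]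
  | succ k ih =>
    have h1 : u ^ (k + 1) * x * (u ^ (k + 1))⁻¹ = u * (u ^ k * x * (u ^ k)⁻¹) * u⁻¹ := by
      rw [pow_succ']
      group
    rw [h1, ih]
    have h2 : u * x ^ (g ^ k).val * u⁻¹ = (u * x * u⁻¹) ^ (g ^ k).val := by
      rw [conj_pow]
    rw [h2, hu, pow_val_mul hx, ← pow_succ']


section

variable {S : Type*} [Group S] [Finite S] {p : ℕ} [hp : Fact p.Prime]

/-- If the powers of `y` are conjugate in `S` and `C(y) = ⟨y⟩` then `p` divides `#S / p + 1`. -/
theorem dvd_of_conj (hS : (Nat.card S).factorization p = 1) {y : S} (hy : orderOf y = p)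
    (hc : Nat.card (Subgroup.centralizer ({y} : Set S)) = p)
    (h : ∀ m : ZMod p, m ≠ 0 → IsConj y (y ^ m.val)) : p ∣ Nat.card S / p + 1 := by
  classical
  have h1 := card_fus_mul hS hy (c := 1) (by rw [hc, mul_one])
  have h2 : (fus (p := p) y) = Finset.univ.erase 0 := by
    ext m
    rw [mem_fus, Finset.mem_erase]
    exact ⟨fun h3 => ⟨h3.1, Finset.mem_univ _⟩, fun h3 => ⟨h3.1, h m h3.1⟩⟩
  rw [h2, Finset.card_erase_of_mem (Finset.mem_univ _), Finset.card_univ, ZMod.card, mul_one] at h1
  have h3 := h1.add_right 1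
  have hp1 := hp.out.one_lt
  rw [Nat.sub_add_cancel hp1.le] at h3
  have h4 : p ≡ 0 [MOD p] := (Nat.modEq_zero_iff_dvd).2 dvd_rfl
  exact (Nat.modEq_zero_iff_dvd).1 (h3.symm.trans h4)

/-- The almost simple groups with a socle of index two, when the socle has a character of `p`-defect
zero but `p` does not divide `#S / p + 1`. -/
theorem not_star_of_half [Finite G] (hp2 : p ≠ 2) (hS : (Nat.card S).factorization p = 1)
    (h : HasDZ p S) (f : S →* G) (hf : Function.Injective f) (hn : f.range.Normal)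
    (hd : f.range.index = 2) (har : ¬ p ∣ Nat.card S / p + 1) {q : ℕ} (hq : Odd q) (hq1 : 1 < q)
    (hqp : q ∣ p - 1) (h2 : 2 < (p - 1) / q) : ¬ Star G := by
  classical
  intro hst
  have hodd : 2 < p := lt_of_le_of_ne hp.out.two_le (Ne.symm hp2)
  have e : S ≃* f.range := MonoidHom.ofInjective hf
  have hdp : ¬ p ∣ f.range.index := by
    rw [hd]
    intro h3
    exact hp2 ((Nat.prime_dvd_prime_iff_eq hp.out Nat.prime_two).1 h3)
  have h1 : HasDZ p G := HasDZ.of_normal f.range hdp (HasDZ.mulEquiv e h)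
  have hcS : Nat.card f.range = Nat.card S := (Nat.card_congr e.toEquiv).symm
  have hcG : Nat.card G = Nat.card S * f.range.index := by rw [← hcS, Subgroup.card_mul_index]
  have hG : (Nat.card G).factorization p = 1 := by
    rw [hcG, Nat.factorization_mul Nat.card_pos.ne' Subgroup.index_ne_zero_of_finite,
      Finsupp.add_apply, hS, Nat.factorization_eq_zero_of_not_dvd hdp]
  have hpS : p ∣ Nat.card S := by
    have := Nat.ordProj_dvd (Nat.card S) p
    rwa [hS, pow_one] at this
  obtain ⟨y, hy⟩ := exists_prime_orderOf_dvd_card' (G := S) p hpS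
  set x : G := f y with hxdef
  have hx : orderOf x = p := by rw [hxdef, orderOf_injective f hf, hy]
  have hxp : x ^ p = 1 := by rw [← hx]; exact pow_orderOf_eq_one x
  have hyp : y ^ p = 1 := by rw [← hy]; exact pow_orderOf_eq_one y
  have hcx := hst.centralizer_of_hasDZ h1 hp2 hG hx
  have hxC : x ∈ Subgroup.centralizer ({x} : Set G) := Subgroup.mem_centralizer_singleton_iff.2 rfl
  have hCz : Subgroup.centralizer ({x} : Set G) = Subgroup.zpowers x := by
    symm
    apply Subgroup.eq_of_le_of_card_ge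
    · rw [Subgroup.zpowers_le]
      exact hxC
    · rw [hcx, Nat.card_zpowers, hx]
  have hcy : Nat.card (Subgroup.centralizer ({y} : Set S)) = p := by
    have hyC : y ∈ Subgroup.centralizer ({y} : Set S) := Subgroup.mem_centralizer_singleton_iff.2 rfl
    apply le_antisymm
    · rw [← hcx, ← Subgroup.card_map_of_injective hf]
      apply Subgroup.card_le_of_le
      rw [Subgroup.map_le_iff_le_comap]
      intro z hz
      rw [Subgroup.mem_comap, Subgroup.mem_centralizer_singleton_iff, hxdef, ← map_mul, ← map_mul,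
        Subgroup.mem_centralizer_singleton_iff.1 hz]
    · rw [← hy, ← Subgroup.orderOf_mk y hyC]
      exact Nat.le_of_dvd Nat.card_pos (orderOf_dvd_natCard _)
  -- all powers of `x` are conjugate
  have hconj : ∀ m : ZMod p, m ≠ 0 → IsConj x (x ^ m.val) := by
    intro m hm
    have ho : orderOf (x ^ m.val) = p := by
      have h3 : m.val.Coprime p := ZMod.val_coe_unit_coprime (Units.mk0 m hm)
      have h4 : (orderOf x).Coprime m.val := by rw [hx]; exact h3.symm
      rw [Nat.Coprime.orderOf_pow h4, hx]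
    exact hst.isConj (HasDZ.van h1 (by rw [hx])) (HasDZ.van h1 (by rw [ho])) hodd (by rw [hx])
      (by rw [ho]) (orderOf_pos x)
  obtain ⟨g, hg⟩ := IsCyclic.exists_generator (α := (ZMod p)ˣ)
  have hgo : orderOf g = p - 1 := by
    rw [orderOf_eq_card_of_forall_mem_zpowers hg, Nat.card_eq_fintype_card, ZMod.card_units_eq_totient,
      Nat.totient_prime hp.out]
  obtain ⟨u, hu⟩ := isConj_iff.1 (hconj g g.ne_zero)
  have hpowu := fun k => conj_pow' hxp hu k
  -- a conjugating element of `S` gives a contradiction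
  have key : ∀ w : G, w * x * w⁻¹ = x ^ (g : ZMod p).val → w ∉ f.range := by
    rintro _ hw ⟨s, rfl⟩
    apply har
    refine dvd_of_conj hS hy hcy fun m hm => ?_
    obtain ⟨k, hk⟩ := Subgroup.mem_zpowers_iff.1 (hg (Units.mk0 m hm))
    rw [isConj_iff]
    obtain ⟨l, hl⟩ : ∃ l : ℕ, g ^ l = Units.mk0 m hm := by
      have h3 := hg (Units.mk0 m hm)
      rw [← mem_powers_iff_mem_zpowers] at h3
      exact h3
    refine ⟨s ^ l, ?_⟩
    apply hf
    have h4 := conj_pow' hxp hw l
    rw [map_mul, map_mul, map_inv, map_pow, map_pow]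
    rw [h4, hxdef]
    congr 2
    rw [← Units.val_pow_eq_pow_val, hl]
    rfl
  have huN : u ∉ f.range := key u hu
  have hou : orderOf u = p - 1 := by
    have hp1 : 0 < p - 1 := by omega
    have h3 : u ^ (p - 1) = 1 := by
      have h4 : u ^ (p - 1) ∈ Subgroup.centralizer ({x} : Set G) := by
        rw [Subgroup.mem_centralizer_singleton_iff]
        have h5 := hpowu (p - 1)
        rw [← Units.val_pow_eq_pow_val, ← hgo, pow_orderOf_eq_one, Units.val_one, ZMod.val_one,
          pow_one] at h5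
        rw [hgo] at h5
        exact mul_inv_eq_iff_eq_mul.1 h5
      rw [hCz, ← mem_powers_iff_mem_zpowers] at h4
      obtain ⟨j, hj⟩ := h4
      change x ^ j = u ^ (p - 1) at hj
      have h5 : u * x ^ j * u⁻¹ = x ^ j := by
        rw [hj, ← pow_succ', mul_inv_eq_iff_eq_mul, ← pow_succ]
      have h6 : u * x ^ j * u⁻¹ = (x ^ j) ^ (g : ZMod p).val := by
        rw [← _root_.conj_pow, hu, ← pow_mul, ← pow_mul, mul_comm]
      rw [h5] at h6
      by_contra hne
      rw [← hj] at hne
      have ho : orderOf (x ^ j) = p := orderOf_eq_prime (by rw [← pow_mul, mul_comm, pow_mul, hxp, one_pow]) hne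
      have h7 : (x ^ j) ^ 1 = (x ^ j) ^ (g : ZMod p).val := by rw [pow_one]; exact h6
      rw [pow_inj_mod, ho, Nat.mod_eq_of_lt hp.out.one_lt, Nat.mod_eq_of_lt (ZMod.val_lt _)] at h7
      have h8 : (g : ZMod p) = 1 := by
        have h9 : (g : ZMod p).val = (1 : ZMod p).val := by rw [ZMod.val_one, ← h7]
        exact ZMod.val_injective p h9
      have h10 : g = 1 := Units.ext h8
      rw [h10, orderOf_one] at hgo
      omega
    refine Nat.dvd_antisymm (orderOf_dvd_of_pow_eq_one h3) ?_
    rw [← hgo]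
    apply orderOf_dvd_of_pow_eq_one
    have h4 := hpowu (orderOf u)
    rw [pow_orderOf_eq_one, one_mul, inv_one, mul_one] at h4
    have h5 : x ^ 1 = x ^ ((g : ZMod p) ^ orderOf u).val := by rw [pow_one]; exact h4
    rw [pow_inj_mod, hx, Nat.mod_eq_of_lt hp.out.one_lt, Nat.mod_eq_of_lt (ZMod.val_lt _)] at h5
    apply Units.ext
    rw [Units.val_pow_eq_pow_val, Units.val_one]
    have h9 : ((g : ZMod p) ^ orderOf u).val = (1 : ZMod p).val := by rw [ZMod.val_one, ← h5]
    exact ZMod.val_injective p h9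
  -- the character vanishing outside of `f.range`
  have hnc : ¬ IsConj (⟨x, ⟨y, rfl⟩⟩ : f.range) (MulAut.conjNormal u ⟨x, ⟨y, rfl⟩⟩) := by
    intro hc
    obtain ⟨w, hw⟩ := isConj_iff.1 hc
    have h3 := congrArg Subtype.val hw
    refine key w ?_ w.2
    rw [← hu]
    simpa using h3
  obtain ⟨χ, hχ⟩ := exists_zero_off f.range hd hnc
  have huq : u ^ q ∉ f.range := by
    intro h3
    obtain ⟨k, hk⟩ := hq
    have h4 : u ^ (2 * k) ∈ f.range := by
      rw [pow_mul]
      exact pow_mem (by rw [← hd]; exact Subgroup.pow_index_mem _ u) k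
    apply huN
    have h5 : u = u ^ q * (u ^ (2 * k))⁻¹ := by
      rw [hk, pow_succ', mul_inv_cancel_right]
    rw [h5]
    exact mul_mem h3 (inv_mem h4)
  have hoq : orderOf (u ^ q) = (p - 1) / q := by
    rw [orderOf_pow, hou, Nat.gcd_eq_right hqp]
  have hlt : (p - 1) / q < p - 1 := Nat.div_lt_self (by omega) hq1
  have h5 := hst.isConj (x := u) (y := u ^ q) ⟨χ, hχ u huN⟩ ⟨χ, hχ _ huq⟩ h2
    (by rw [hou]; exact Nat.div_dvd_of_dvd hqp) (by rw [hoq]) (orderOf_pos u)
  obtain ⟨c, hc⟩ := isConj_iff.1 h5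
  have h6 : orderOf u = orderOf (u ^ q) := by
    rw [← hc]
    exact (MulEquiv.orderOf_eq (MulAut.conj c) u).symm
  rw [hou, hoq] at h6
  omega

end

/-- The row of S4943 for a simple group with `|Out| ∣ 2` and half a Frobenius group. -/
theorem Row.of_half {S : Type v} [Group S] [Finite S] {p : ℕ} [hp : Fact p.Prime]
    (hp2 : p ≠ 2) (hS : (Nat.card S).factorization p = 1) (h : HasDZ p S)
    (ho : Nat.card (MulAut S) ∣ 2 * Nat.card S) (har : ¬ p ∣ Nat.card S / p + 1) {q : ℕ} (hq : Odd q)
    (hq1 : 1 < q) (hqp : q ∣ p - 1) (h2 : 2 < (p - 1) / q) : Row.{u, v} S where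
  vz := by
    have hodd : 2 < p := lt_of_le_of_ne hp.out.two_le (Ne.symm hp2)
    have hpS : p ∣ Nat.card S := by
      have := Nat.ordProj_dvd (Nat.card S) p
      rwa [hS, pow_one] at this
    obtain ⟨y, hy⟩ := exists_prime_orderOf_dvd_card' (G := S) p hpS
    exact ⟨y, by rw [hy]; exact hodd, HasDZ.vz h (by rw [hy])⟩
  as := by
    intro G _ _ f hf hn hc
    have h1 := (index_mul_card_dvd f hf hn hc).trans ho
    have h3 : f.range.index ∣ 2 := Nat.dvd_of_mul_dvd_mul_right Nat.card_pos h1
    rcases (Nat.dvd_prime Nat.prime_two).1 h3 with h4 | h4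
    · refine not_star_of_dz hp2 hS h f hf hn ?_ ?_
      · rw [h4]
        exact hp.out.one_lt.ne' ∘ Nat.dvd_one.1
      · rw [h4, one_mul]
        exact har
    · exact not_star_of_half hp2 hS h f hf hn h4 har hq hq1 hqp h2

end Cfsg.Agent.H710.OutVan
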