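import Cfsg.Agent.H710.UThree
import Cfsg.Agent.H710.GelfandBeta
import Cfsg.Agent.H664.R1.U3Defs

/-!
# Multiplicity one for the Gelfand–Graev characters of `GU(3, q)`, `q` even (helper710)

* `inc` : `SUJ σ →* GUJ σ`; `del s` : the diagonal matrix `diag(1, s, 1)`;
* `lin L c` : the linear character `x ↦ (-1) ^ L (c * x.a)` of the radical;
* `gelfand` : an irreducible character of `GU(3, q)` contains `lin L 1` at most once (`L ∘ σ = L`).
-/

set_option autoImplicit false
set_option linter.unusedSectionVars false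
set_option linter.unusedVariables false

namespace Cfsg.Agent.H710.GUThree

open Matrix Cfsg Cfsg.Agent.LieRecognition Cfsg.Agent.LieRecognition.HermHeis
  Cfsg.Agent.LieRecognition.PSUThreeSylow Cfsg.Agent.LieRecognition.RankOneAbstract
  Cfsg.Agent.SuzukiRankOne Cfsg.Agent.SuzukiRankOne.PSUModel Cfsg.Agent.AschCrit.PSUTorus
  Cfsg.Agent.H710.Cuspidal Cfsg.Agent.H664.R1.U3 Cfsg.Agent.H710.UThree Cfsg.Agent.Characters.Core

universe u

variable {F : Type u} [Field F] [CharP F 2] {σ : F →+* F} [hσ : Fact (∀ x, σ (σ x) = x)]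

/-- The inclusion of the special unitary group. -/
def inc (σ : F →+* F) : SUJ σ →* GUJ σ where
  toFun g := ⟨Matrix.SpecialLinearGroup.toGL g.1, g.2⟩
  map_one' := by
    apply mat_inj
    rfl
  map_mul' g h := by
    apply mat_inj
    rfl

theorem mat_inc (g : SUJ σ) : mat σ (inc σ g) = g.1.1 := rfl

theorem inc_injective : Function.Injective (inc σ) := by
  intro g h H
  apply Subtype.ext
  apply Subtype.ext
  have := congrArg (mat σ) H
  rwa [mat_inc, mat_inc] at this

/-- `diag(1, s, 1)` -/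
def del (σ : F →+* F) [hσ : Fact (∀ x, σ (σ x) = x)] (s : F) (hs : s * σ s = 1) : GUJ σ :=
  mk !![1, 0, 0; 0, s, 0; 0, 0, 1] (by
    ext i j
    fin_cases i <;> fin_cases j <;> simp [Jm, Matrix.mul_apply, Fin.sum_univ_three, hs])

theorem mat_del (s : F) (hs : s * σ s = 1) : mat σ (del σ s hs) = !![1, 0, 0; 0, s, 0; 0, 0, 1] := rfl

theorem norm_sig {s : F} (hs : s * σ s = 1) : σ s * σ (σ s) = 1 := by
  rw [HermHeis.sig, mul_comm, hs]

theorem exists_inc (g : GUJ σ) : ∃ (g' : SUJ σ) (s : F) (hs : s * σ s = 1), g = inc σ g' * del σ s hs := by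
  have hs : (mat σ g).det * σ (mat σ g).det = 1 := det_norm (mat_spec g)
  set s := (mat σ g).det with hsd
  have h1 : del σ (σ s) (norm_sig hs) * del σ s hs = 1 := by
    apply mat_inj
    rw [mat_mul, mat_del, mat_del, mat_one]
    ext i j
    fin_cases i <;> fin_cases j <;> simp [Matrix.mul_apply, Fin.sum_univ_three, mul_comm (σ s) s, hs]
  have hdet : (mat σ (g * del σ (σ s) (norm_sig hs))).det = 1 := by
    rw [mat_mul, Matrix.det_mul, ← hsd, mat_del, Matrix.det_fin_three]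
    simp [hs]
  refine ⟨⟨⟨mat σ (g * del σ (σ s) (norm_sig hs)), hdet⟩, (g * del σ (σ s) (norm_sig hs)).2⟩, s, hs, ?_⟩
  have h2 : inc σ ⟨⟨mat σ (g * del σ (σ s) (norm_sig hs)), hdet⟩, (g * del σ (σ s) (norm_sig hs)).2⟩ =
      g * del σ (σ s) (norm_sig hs) := mat_inj rfl
  rw [h2, mul_assoc, h1, mul_one]

/-- the embedding of the radical -/
def iu (σ : F →+* F) [hσ : Fact (∀ x, σ (σ x) = x)] : Heis σ →* GUJ σ := (inc σ).comp (emb σ)

theorem mat_iu (x : Heis σ) : mat σ (iu σ x) = umat x := rfl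

theorem iu_injective : Function.Injective (iu σ) := inc_injective.comp emb_injective

/-- the action of `del s` on the radical -/
def dsc (s : F) (hs : s * σ s = 1) (x : Heis σ) : Heis σ :=
  ⟨σ s * x.a, x.b, by
    rw [map_mul, HermHeis.sig, x.h]
    linear_combination (-(x.a * σ x.a)) * hs⟩

theorem del_mul (s : F) (hs : s * σ s = 1) (x : Heis σ) :
    del σ s hs * iu σ x = iu σ (dsc s hs x) * del σ s hs := by
  apply mat_inj
  rw [mat_mul, mat_mul, mat_del, mat_iu, mat_iu]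
  ext i j
  fin_cases i <;> fin_cases j <;>
    simp [umat, dsc, Matrix.mul_apply, Fin.sum_univ_three, HermHeis.sig]
  linear_combination (-x.a) * hs

/-- the field automorphism -/
def fld (σ : F →+* F) [hσ : Fact (∀ x, σ (σ x) = x)] : GUJ σ →* GUJ σ where
  toFun g := mk ((mat σ g).map σ) (by
    have h := congrArg (fun M : Matrix (Fin 3) (Fin 3) F => M.map σ) (mat_spec g)
    simp only [Matrix.map_mul, Jm_map] at h
    rw [Matrix.transpose_map] at h
    exact h)
  map_one' := by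
    apply mat_inj
    rw [mat_mk, mat_one, Matrix.map_one σ (map_zero σ) (map_one σ)]
  map_mul' g h := by
    apply mat_inj
    rw [mat_mk, mat_mul, mat_mul, mat_mk, mat_mk, Matrix.map_mul]

theorem mat_fld (g : GUJ σ) : mat σ (fld σ g) = (mat σ g).map σ := rfl

/-- the anti-automorphism -/
def tau (g : GUJ σ) : GUJ σ := (fld σ g)⁻¹

theorem tau_mul (g h : GUJ σ) : tau (g * h) = tau h * tau g := by
  rw [tau, map_mul, _root_.mul_inv_rev]
  rfl

/-- the action on the radical -/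
def bet : Heis σ ≃ Heis σ where
  toFun x := ⟨σ x.a, x.b, by rw [HermHeis.sig, x.h, mul_comm]⟩
  invFun x := ⟨σ x.a, x.b, by rw [HermHeis.sig, x.h, mul_comm]⟩
  left_inv x := by ext <;> simp [HermHeis.sig]
  right_inv x := by ext <;> simp [HermHeis.sig]

theorem bet_a (x : Heis σ) : (bet x).a = σ x.a := rfl

theorem tau_iu (x : Heis σ) : tau (iu σ x) = iu σ (bet x) := by
  rw [tau, inv_eq_iff_mul_eq_one]
  apply mat_inj
  rw [mat_mul, mat_fld, mat_iu, mat_iu, mat_one]
  have h := x.h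
  ext i j
  fin_cases i <;> fin_cases j <;>
    simp [umat, bet, Matrix.mul_apply, Fin.sum_univ_three, HermHeis.sig, CharTwo.add_self_eq_zero]
  linear_combination h + CharTwo.add_self_eq_zero (x.a * σ x.a)

/-- the torus elements -/
def hat (α : F) (h0 : α ≠ 0) (s : F) (hs : s * σ s = 1) : GUJ σ := inc σ (tel σ α h0) * del σ s hs

theorem mat_hat (α : F) (h0 : α ≠ 0) (s : F) (hs : s * σ s = 1) :
    mat σ (hat (σ := σ) α h0 s hs) = !![α, 0, 0; 0, σ α / α * s, 0; 0, 0, (σ α)⁻¹] := by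
  rw [hat, mat_mul, mat_inc, tel_val, mat_del]
  ext i j
  fin_cases i <;> fin_cases j <;> simp [Matrix.mul_apply, Fin.sum_univ_three]

theorem tel_mul (α : F) (h0 : α ≠ 0) (x : Heis σ) :
    tel σ α h0 * emb σ x = emb σ (scal α h0 x) * tel σ α h0 := by
  have h1 : σ α ≠ 0 := (map_ne_zero σ).mpr h0
  apply Subtype.ext
  apply Subtype.ext
  rw [coe_mul_SUJ, coe_mul_SUJ, tel_val, emb_val, emb_val]
  ext i j
  fin_cases i <;> fin_cases j <;>
    simp [umat, scal, Matrix.mul_apply, Fin.sum_univ_three, HermHeis.sig] <;> field_simp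

/-- the action of the torus -/
def act (α : F) (h0 : α ≠ 0) (s : F) (hs : s * σ s = 1) (x : Heis σ) : Heis σ :=
  scal α h0 (dsc s hs x)

theorem hat_mul (α : F) (h0 : α ≠ 0) (s : F) (hs : s * σ s = 1) (x : Heis σ) :
    hat α h0 s hs * iu σ x = iu σ (act α h0 s hs x) * hat α h0 s hs := by
  have h1 : inc σ (tel σ α h0) * iu σ (dsc s hs x) = iu σ (act α h0 s hs x) * inc σ (tel σ α h0) := by
    have := congrArg (inc σ) (tel_mul (σ := σ) α h0 (dsc s hs x))
    rwa [map_mul, map_mul] at this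
  rw [hat, mul_assoc, del_mul, ← mul_assoc, h1, mul_assoc]

theorem act_a (α : F) (h0 : α ≠ 0) (s : F) (hs : s * σ s = 1) (x : Heis σ) :
    (act α h0 s hs x).a = α ^ 2 / σ α * σ s * x.a := by
  change α ^ 2 / σ α * (σ s * x.a) = _
  ring

/-- an element of the torus is determined by its entry -/
theorem eq_tel {t : SUJ σ} (ht : t ∈ torus σ) : ∃ (α : F) (h0 : α ≠ 0), t = tel σ α h0 := by
  obtain ⟨α, h0, hα, -, -, -⟩ := exists_scal ht
  refine ⟨α, h0, ?_⟩
  have h := torusHom_injective (σ := σ) (a₁ := ⟨t, ht⟩) (a₂ := ⟨tel σ α h0, tel_mem α h0⟩) (by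
    change t.1.1 0 0 = (tel σ α h0).1.1 0 0
    rw [hα, tel_val]
    simp)
  exact congrArg Subtype.val h

theorem hT : ∀ g, g ∈ torus σ ↔ g ∈ borel σ ∧ (wel σ)⁻¹ * g * wel σ ∈ borel σ := fun _ => mem_torus

/-- **Bruhat decomposition** -/
theorem bruhat (g : GUJ σ) :
    (∃ (u : Heis σ) (α : F) (h0 : α ≠ 0) (s : F) (hs : s * σ s = 1), g = iu σ u * hat α h0 s hs) ∨
    (∃ (u v : Heis σ) (α : F) (h0 : α ≠ 0) (s : F) (hs : s * σ s = 1),
      g = iu σ u * (inc σ (wel σ) * hat α h0 s hs) * iu σ v) := by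
  obtain ⟨g', s, hs, rfl⟩ := exists_inc g
  by_cases hb : g' ∈ borel σ
  · left
    obtain ⟨_, ⟨u, rfl⟩, t, ht, rfl⟩ := exists_decomp data_SUJ hT hb
    obtain ⟨α, h0, rfl⟩ := eq_tel ht
    refine ⟨u, α, h0, s, hs, ?_⟩
    rw [map_mul, mul_assoc]
    rfl
  · right
    obtain ⟨_, ⟨u, rfl⟩, hu⟩ := data_SUJ.bruhat g' hb
    -- an element of the Borel subgroup is `t * v`
    obtain ⟨_, ⟨v, rfl⟩, t, ht, hvt⟩ := exists_decomp data_SUJ hT ((borel σ).inv_mem hu)
    obtain ⟨α, h0, hα⟩ := eq_tel ((torus σ).inv_mem ht)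
    have hg : g' = emb σ u * wel σ * (tel σ α h0 * emb σ v⁻¹) := by
      have h1 : ((emb σ u * wel σ)⁻¹ * g')⁻¹⁻¹ = (emb σ v * t)⁻¹ := by rw [hvt]
      rw [inv_inv, inv_mul_eq_iff_eq_mul, _root_.mul_inv_rev, hα, ← map_inv] at h1
      exact h1
    obtain ⟨v', hv'⟩ : ∃ v' : Heis σ, iu σ v⁻¹ * del σ s hs = del σ s hs * iu σ v' := by
      refine ⟨⟨s * v⁻¹.a, v⁻¹.b, by
        rw [map_mul, (v⁻¹).h]
        linear_combination (-(v⁻¹.a * σ v⁻¹.a)) * hs⟩, ?_⟩
      rw [del_mul]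
      congr 2
      ext
      · change _ = σ s * (s * v⁻¹.a)
        linear_combination (-v⁻¹.a) * hs
      · rfl
    refine ⟨u, v', α, h0, s, hs, ?_⟩
    rw [hg, map_mul, map_mul, map_mul]
    change iu σ u * inc σ (wel σ) * (inc σ (tel σ α h0) * iu σ v⁻¹) * del σ s hs = _
    rw [hat]
    simp only [mul_assoc]
    rw [hv']

theorem tau_wel_hat (α : F) (h0 : α ≠ 0) (s : F) (hs : s * σ s = 1) :
    tau (inc σ (wel σ) * hat α h0 s hs) = inc σ (wel σ) * hat α h0 s hs := by
  have h1 : σ α ≠ 0 := (map_ne_zero σ).mpr h0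
  rw [tau, inv_eq_iff_mul_eq_one]
  apply mat_inj
  rw [mat_mul, mat_fld, mat_mul, mat_inc, wel_val, mat_hat, mat_one]
  ext i j
  fin_cases i <;> fin_cases j <;>
    simp [Jm, Matrix.mul_apply, Fin.sum_univ_three, HermHeis.sig, h0, h1]
  field_simp
  linear_combination hs

/-- a torus element acting trivially on the first coordinates is scalar -/
theorem scalar_of_act {α : F} {h0 : α ≠ 0} {s : F} {hs : s * σ s = 1} (h : α ^ 2 / σ α * σ s = 1) :
    (∀ x : Heis σ, act α h0 s hs x = x) ∧ tau (hat α h0 s hs) = hat α h0 s hs := by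
  have h1 : σ α ≠ 0 := (map_ne_zero σ).mpr h0
  have hs0 : s ≠ 0 := left_ne_zero_of_mul_eq_one hs
  have e1 : α ^ 2 * σ s = σ α := by
    field_simp at h
    exact h
  have e2 : (σ α) ^ 2 * s = α := by
    have := congrArg σ e1
    rwa [map_mul, map_pow, HermHeis.sig, HermHeis.sig] at this
  have e3 : α * σ α = 1 := by
    have h3 : (α * σ α) * (α * σ α) = α * σ α := by
      calc (α * σ α) * (α * σ α) = (α ^ 2 * σ s) * ((σ α) ^ 2 * s) := by linear_combination (-(α * σ α) ^ 2) * hs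
        _ = α * σ α := by rw [e1, e2, mul_comm]
    exact mul_left_cancel₀ (mul_ne_zero h0 h1) (h3.trans (mul_one _).symm)
  constructor
  · intro x
    ext
    · rw [act_a, h, one_mul]
    · change α * σ α * x.b = x.b
      rw [e3, one_mul]
  · rw [tau, inv_eq_iff_mul_eq_one]
    apply mat_inj
    rw [mat_mul, mat_fld, mat_hat, mat_one]
    ext i j
    fin_cases i <;> fin_cases j <;>
      simp [Matrix.mul_apply, Fin.sum_univ_three, HermHeis.sig]
    · rw [mul_comm, e3]
    · field_simp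
      linear_combination hs
    · field_simp
      exact e3.symm

/-! ### the linear characters -/

/-- the sign character of `ZMod 2` -/
noncomputable def sg (z : ZMod 2) : ℂˣ := if z = 0 then 1 else -1

theorem sg_add (a b : ZMod 2) : sg (a + b) = sg a * sg b := by
  revert a b
  have h : ∀ a b : ZMod 2, (a = 0 ∨ a = 1) ∧ (b = 0 ∨ b = 1) := by decide
  intro a b
  obtain ⟨ha, hb⟩ := h a b
  have h11 : (1 : ZMod 2) + 1 = 0 := by decide
  rcases ha with rfl | rfl <;> rcases hb with rfl | rfl <;> simp [sg, h11]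

theorem sg_eq_iff (a b : ZMod 2) : sg a = sg b ↔ a = b := by
  have h : ∀ a b : ZMod 2, (a = 0 ∨ a = 1) ∧ (b = 0 ∨ b = 1) := by decide
  obtain ⟨ha, hb⟩ := h a b
  have hne : (1 : ℂˣ) ≠ -1 := by
    intro h
    have := congrArg (fun u : ℂˣ => (u : ℂ)) h
    norm_num at this
  rcases ha with rfl | rfl <;> rcases hb with rfl | rfl <;> simp [sg, hne, hne.symm]

/-- the linear characters of the radical -/
noncomputable def lin (L : F →+ ZMod 2) (c : F) : Heis σ →* ℂˣ where
  toFun x := sg (L (c * x.a))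
  map_one' := by
    rw [one_a, mul_zero, map_zero]
    simp [sg]
  map_mul' x y := by
    rw [← sg_add, ← map_add, ← mul_add]
    rfl

theorem lin_apply (L : F →+ ZMod 2) (c : F) (x : Heis σ) : lin L c x = sg (L (c * x.a)) := rfl

theorem lin_eq_iff {L : F →+ ZMod 2} {c d : F} (x y : Heis σ) :
    lin L c x = lin L d y ↔ L (c * x.a) = L (d * y.a) := sg_eq_iff _ _

section

variable [Finite F]

/-- **Multiplicity one.** -/
theorem gelfand (hsur : ∀ a : F, ∃ x : Heis σ, x.a = a) {L : F →+ ZMod 2} (hL : ∀ a, L (σ a) = L a)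
    {a₀ : F} (ha₀ : L a₀ ≠ 0) [Fintype (Heis σ)] {χ : GUJ σ → ℂ} (hχ : IsIrrCharacter (GUJ σ) χ) :
    classInner (χ ∘ iu σ) (fun a => (lin L 1 a : ℂ)) = 0 ∨
      classInner (χ ∘ iu σ) (fun a => (lin L 1 a : ℂ)) = 1 := by
  have : Fintype (GUJ σ) := Fintype.ofFinite _
  have hβ : ∀ a : Heis σ, lin L 1 (bet a) = lin L 1 a := by
    intro a
    rw [lin_eq_iff, bet_a, one_mul, one_mul, hL]
  refine GelfandBeta.mult_le_one (iu σ) (lin L 1) tau bet tau_mul tau_iu hβ (fun g => ?_) hχ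
  rcases bruhat g with ⟨u, α, h0, s, hs, rfl⟩ | ⟨u, v, α, h0, s, hs, rfl⟩
  · by_cases hk : α ^ 2 / σ α * σ s = 1
    · left
      obtain ⟨h1, h2⟩ := scalar_of_act (h0 := h0) (hs := hs) hk
      refine ⟨bet u * u⁻¹, 1, ?_, ?_⟩
      · rw [tau_mul, h2, tau_iu, hat_mul, h1, map_one, mul_one, map_mul, map_inv]
        group
      · rw [map_one, mul_one, map_mul, hβ, map_inv, mul_inv_cancel]
    · right
      have hk' : α ^ 2 / σ α * σ s - 1 ≠ 0 := sub_ne_zero.2 hk
      obtain ⟨b, hb⟩ := hsur ((α ^ 2 / σ α * σ s - 1)⁻¹ * a₀)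
      refine ⟨u * act α h0 s hs b * u⁻¹, b, ?_, ?_⟩
      · have h3 := hat_mul α h0 s hs b
        rw [mul_assoc (iu σ u), h3, map_mul, map_mul, map_inv]
        group
      · rw [map_mul, map_mul, map_inv, mul_comm (lin L 1 u), mul_inv_cancel_right, Ne, lin_eq_iff,
          act_a, one_mul, one_mul]
        intro h4
        apply ha₀
        have h5 : a₀ = (α ^ 2 / σ α * σ s) * b.a - b.a := by
          have h6 : (α ^ 2 / σ α * σ s) * b.a - b.a = (α ^ 2 / σ α * σ s - 1) * b.a := by ring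
          rw [h6, hb, mul_inv_cancel_left₀ hk']
        rw [h5, map_sub, h4, sub_self]
  · left
    refine ⟨bet v * u⁻¹, v⁻¹ * bet u, ?_, ?_⟩
    · rw [tau_mul, tau_mul, tau_iu, tau_iu, tau_wel_hat, map_mul, map_mul, map_inv, map_inv]
      group
    · rw [map_mul, map_mul, map_inv, map_inv, hβ, hβ]
      calc lin L 1 v * (lin L 1 u)⁻¹ * ((lin L 1 v)⁻¹ * lin L 1 u) =
          (lin L 1 v * (lin L 1 v)⁻¹) * ((lin L 1 u)⁻¹ * lin L 1 u) := by
            rw [mul_mul_mul_comm]
        _ = 1 := by rw [mul_inv_cancel, inv_mul_cancel, one_mul]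

end

end Cfsg.Agent.H710.GUThree
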