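import Cfsg.Agent.H710.Cuspidal
import Cfsg.Agent.OddOrderCharacters.NormTwo
import Cfsg.Agent.OddOrderCharacters.IndRes
import Cfsg.Agent.Characters.GaloisIrr

/-!
# Differences of Gelfand–Graev characters in groups of rank one (helper710)

`i : A →* G` is an embedding onto the radical `U` of the Borel subgroup `H` of a split BN-pair of rank one.
If `ψ₁`, `ψ₂` are linear characters of `A` whose stabilizers in `H` are `U` and which are not conjugate
under `H`, then the difference of the induced characters is a difference of two irreducible characters.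
-/

set_option autoImplicit false
set_option linter.unusedSectionVars false

namespace Cfsg.Agent.H710.TIPair

open Cfsg Subgroup Cfsg.Agent.LieRecognition.RankOneAbstract Cfsg.Agent.Characters.Core
open Cfsg.Agent.OddOrderCharacters Cfsg.Agent.OddOrderCharacters.IndRes
open scoped ComplexConjugate

section

variable {G A : Type*} [Group G] [Finite G] [Group A] [Fintype A] {H : Subgroup G} {w : G}
  {i : A →* G}

theorem inner_hom (a b : A →* ℂˣ) (h : a ≠ b) :
    classInner (fun s => (a s : ℂ)) (fun s => (b s : ℂ)) = 0 := by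
  apply classInner_irr_ne (Characters.Linear.isIrrCharacter_hom a) (Characters.Linear.isIrrCharacter_hom b)
  intro h1
  apply h
  ext s
  exact congrFun h1 s

theorem inner_self (a : A →* ℂˣ) : classInner (fun s => (a s : ℂ)) (fun s => (a s : ℂ)) = 1 :=
  classInner_irr_self (Characters.Linear.isIrrCharacter_hom a)

/-- conjugation by an element of `H`. -/
theorem exists_hom (hi : Function.Injective i) (D : Data H i.range w) {x : G} (hx : x ∈ H) :
    ∃ f : A →* A, ∀ a, x⁻¹ * i a * x = i (f a) := by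
  have h1 : ∀ a, ∃ b, x⁻¹ * i a * x = i b := by
    intro a
    have h := D.norm x⁻¹ (H.inv_mem hx) (i a) ⟨a, rfl⟩
    rw [inv_inv] at h
    obtain ⟨b, hb⟩ := h
    exact ⟨b, hb.symm⟩
  choose f hf using h1
  refine ⟨⟨⟨f, hi ?_⟩, fun a b => hi ?_⟩, hf⟩
  · change i (f 1) = i 1
    rw [← hf, map_one, mul_one, inv_mul_cancel]
  · change i (f (a * b)) = i (f a * f b)
    rw [← hf, map_mul, map_mul, ← hf, ← hf]
    group

/-- the isomorphism onto the range -/
noncomputable def eqv (hi : Function.Injective i) : A ≃* i.range := MonoidHom.ofInjective hi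

theorem eqv_coe (hi : Function.Injective i) (a : A) : ((eqv hi a : i.range) : G) = i a := rfl

/-- the function on the range -/
noncomputable def fn (hi : Function.Injective i) (ψ : A → ℂ) : i.range → ℂ := fun u => ψ ((eqv hi).symm u)

theorem fn_eqv (hi : Function.Injective i) (ψ : A → ℂ) (a : A) : fn hi ψ (eqv hi a) = ψ a := by
  rw [fn, MulEquiv.symm_apply_apply]

theorem ext_fn (hi : Function.Injective i) (ψ : A → ℂ) (a : A) :
    extendByZero i.range (fn hi ψ) (i a) = ψ a := by
  have h : extendByZero i.range (fn hi ψ) ((eqv hi a : i.range) : G) = ψ a := by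
    rw [ext_coe, fn_eqv]
  exact h

/-- Frobenius reciprocity. -/
theorem inner_ind [Fintype G] (hi : Function.Injective i) (ψ : A → ℂ) {χ : G → ℂ} (hχ : IsClassFunction G χ) :
    classInner χ (indFun i.range (fn hi ψ)) = classInner (χ ∘ i) ψ := by
  have : Fintype i.range := Fintype.ofFinite _
  rw [classInner_indFun_right _ _ hχ, classInner_def, classInner_def, ← Nat.card_congr (eqv hi).toEquiv]
  congr 1
  symm
  refine Fintype.sum_equiv (eqv hi).toEquiv _ _ fun a => ?_
  change χ (i a) * conj (ψ a) = res i.range χ (eqv hi a) * conj (fn hi ψ (eqv hi a))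
  rw [fn_eqv]
  rfl

/-- the norm -/
theorem norm_eq [Fintype G] (hi : Function.Injective i) (D : Data H i.range w) {ψ₁ ψ₂ : A →* ℂˣ}
    (h1 : ∀ x ∈ H, ∀ f : A →* A, (∀ a, x⁻¹ * i a * x = i (f a)) → ψ₁.comp f = ψ₁ → x ∈ i.range)
    (h2 : ∀ x ∈ H, ∀ f : A →* A, (∀ a, x⁻¹ * i a * x = i (f a)) → ψ₂.comp f = ψ₂ → x ∈ i.range)
    (h12 : ∀ x ∈ H, ∀ f : A →* A, (∀ a, x⁻¹ * i a * x = i (f a)) → ψ₁.comp f ≠ ψ₂) :
    classInner (indFun i.range (fn hi (fun a => (ψ₁ a : ℂ) - ψ₂ a)))
      (indFun i.range (fn hi (fun a => (ψ₁ a : ℂ) - ψ₂ a))) = 2 := by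
  classical
  set θ : A → ℂ := fun a => (ψ₁ a : ℂ) - ψ₂ a with hθ
  have hcA : (Nat.card A : ℂ) ≠ 0 := Nat.cast_ne_zero.2 Nat.card_pos.ne'
  have hcU : Nat.card i.range = Nat.card A := (Nat.card_congr (eqv hi).toEquiv).symm
  have hθ1 : θ 1 = 0 := by simp [hθ]
  have hne : ψ₁ ≠ ψ₂ := fun h => h12 1 H.one_mem (MonoidHom.id A) (fun a => by simp) (by
    rw [MonoidHom.comp_id, h])
  have hcomp : ∀ f : A →* A, classInner (θ ∘ f) θ =
      classInner (fun a => ((ψ₁.comp f) a : ℂ)) (fun a => (ψ₁ a : ℂ)) -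
      classInner (fun a => ((ψ₁.comp f) a : ℂ)) (fun a => (ψ₂ a : ℂ)) -
      (classInner (fun a => ((ψ₂.comp f) a : ℂ)) (fun a => (ψ₁ a : ℂ)) -
      classInner (fun a => ((ψ₂.comp f) a : ℂ)) (fun a => (ψ₂ a : ℂ))) := by
    intro f
    have e1 : θ ∘ f = (fun a => ((ψ₁.comp f) a : ℂ)) - (fun a => ((ψ₂.comp f) a : ℂ)) := rfl
    have e2 : θ = (fun a => (ψ₁ a : ℂ)) - (fun a => (ψ₂ a : ℂ)) := rfl
    rw [e1, e2, classInner_sub_left, classInner_sub_right, classInner_sub_right]
  -- the sum for a given `x`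
  have hx : ∀ x : G, ∑ a : A, extendByZero i.range (fn hi θ) (x⁻¹ * i a * x) * conj (θ a) =
      if x ∈ i.range then 2 * (Nat.card A : ℂ) else 0 := by
    intro x
    by_cases hxH : x ∈ H
    · obtain ⟨f, hf⟩ := exists_hom hi D hxH
      have e : ∑ a : A, extendByZero i.range (fn hi θ) (x⁻¹ * i a * x) * conj (θ a) =
          (Nat.card A : ℂ) * classInner (θ ∘ f) θ := by
        rw [classInner_def, ← mul_assoc, mul_inv_cancel₀ hcA, one_mul]
        refine Finset.sum_congr rfl fun a _ => ?_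
        rw [hf, ext_fn]
        rfl
      rw [e, hcomp]
      split_ifs with hxU
      · obtain ⟨b, rfl⟩ := hxU
        have hfa : ∀ a, f a = b⁻¹ * a * b := fun a => hi (by
          rw [← hf, map_mul, map_mul, map_inv])
        have e3 : ∀ ψ : A →* ℂˣ, ψ.comp f = ψ := by
          intro ψ
          ext a
          rw [MonoidHom.comp_apply, hfa, map_mul, map_mul, map_inv, mul_comm, ← mul_assoc,
            mul_inv_cancel, one_mul]
        rw [e3, e3, inner_self, inner_self, inner_hom _ _ hne, inner_hom _ _ hne.symm]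
        ring
      · have n1 : ψ₁.comp f ≠ ψ₁ := fun h => hxU (h1 x hxH f hf h)
        have n2 : ψ₂.comp f ≠ ψ₂ := fun h => hxU (h2 x hxH f hf h)
        have n3 : ψ₁.comp f ≠ ψ₂ := h12 x hxH f hf
        have n4 : ψ₂.comp f ≠ ψ₁ := by
          intro h
          obtain ⟨f', hf'⟩ := exists_hom hi D (H.inv_mem hxH)
          apply h12 x⁻¹ (H.inv_mem hxH) f' hf'
          have h3 : ∀ a, f (f' a) = a := by
            intro a
            apply hi
            rw [← hf, ← hf']
            group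
          rw [← h, MonoidHom.comp_assoc]
          ext a
          rw [MonoidHom.comp_apply, MonoidHom.comp_apply, h3]
        rw [inner_hom _ _ n1, inner_hom _ _ n2, inner_hom _ _ n3, inner_hom _ _ n4]
        ring
    · rw [if_neg (fun h => hxH (D.le h))]
      refine Finset.sum_eq_zero fun a _ => ?_
      by_cases ha : a = 1
      · rw [ha, hθ1, map_zero, mul_zero]
      · rw [extendByZero_of_notMem, zero_mul]
        intro hmem
        exact hxH (Cuspidal.mem_of_conj D ⟨a, rfl⟩ (fun h => ha (hi (h.trans (map_one i).symm)))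
          (D.le hmem))
  rw [inner_ind hi θ (isClassFunction_indFun _ _), classInner_def]
  have e1 : ∑ a : A, (indFun i.range (fn hi θ) ∘ i) a * conj (θ a) =
      (Nat.card A : ℂ)⁻¹ * ∑ x : G, ∑ a : A,
        extendByZero i.range (fn hi θ) (x⁻¹ * i a * x) * conj (θ a) := by
    rw [Finset.sum_comm, Finset.mul_sum]
    refine Finset.sum_congr rfl fun a _ => ?_
    rw [Function.comp_apply, S0150.indFun_apply, hcU, mul_assoc, Finset.sum_mul]
  rw [e1, Finset.sum_congr rfl fun x _ => hx x, ← Finset.sum_filter, Finset.sum_const, nsmul_eq_mul]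
  have e2 : ((Finset.univ.filter (fun x : G => x ∈ i.range)).card : ℂ) = Nat.card A := by
    rw [← hcU, Nat.card_eq_fintype_card, Fintype.card_subtype]
  rw [e2]
  field_simp

/-- **Pairs.** -/
theorem exists_pair [Fintype G] (hi : Function.Injective i) (D : Data H i.range w) {ψ₁ ψ₂ : A →* ℂˣ}
    (h1 : ∀ x ∈ H, ∀ f : A →* A, (∀ a, x⁻¹ * i a * x = i (f a)) → ψ₁.comp f = ψ₁ → x ∈ i.range)
    (h2 : ∀ x ∈ H, ∀ f : A →* A, (∀ a, x⁻¹ * i a * x = i (f a)) → ψ₂.comp f = ψ₂ → x ∈ i.range)
    (h12 : ∀ x ∈ H, ∀ f : A →* A, (∀ a, x⁻¹ * i a * x = i (f a)) → ψ₁.comp f ≠ ψ₂) :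
    ∃ μ : G → ℂ, IsIrrCharacter G μ ∧
      classInner (μ ∘ i) (fun a => (ψ₁ a : ℂ)) = classInner (μ ∘ i) (fun a => (ψ₂ a : ℂ)) + 1 ∧
      ∀ τ : ℂ ≃+* ℂ, (∀ a, τ (ψ₁ a) = ψ₁ a) → (∀ a, τ (ψ₂ a) = ψ₂ a) → ∀ g, τ (μ g) = μ g := by
  set θ : A → ℂ := fun a => (ψ₁ a : ℂ) - ψ₂ a with hθ
  have hgen : IsGeneralizedCharacter G (indFun i.range (fn hi θ)) := by
    apply isGeneralizedCharacter_indFun
    refine ⟨fn hi (fun a => (ψ₁ a : ℂ)), fn hi (fun a => (ψ₂ a : ℂ)), ?_, ?_, rfl⟩
    · exact Characters.Linear.isCharacter_hom (ψ₁.comp (eqv hi).symm.toMonoidHom)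
    · exact Characters.Linear.isCharacter_hom (ψ₂.comp (eqv hi).symm.toMonoidHom)
  have hone : indFun i.range (fn hi θ) 1 = 0 := by
    rw [indFun_apply_one, fn, map_one]
    simp [hθ]
  obtain ⟨μ, ν, hμ, hν, hne, he⟩ := NormTwo.exists_sub_of_norm_two hgen (norm_eq hi D h1 h2 h12) hone
  refine ⟨μ, hμ, ?_, ?_⟩
  · have e1 := inner_ind hi θ (χ := μ) (isIrr_isClassFunction hμ)
    have e2 : classInner (μ ∘ i) θ = classInner (μ ∘ i) (fun a => (ψ₁ a : ℂ)) -
        classInner (μ ∘ i) (fun a => (ψ₂ a : ℂ)) := by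
      have e3 : θ = (fun a => (ψ₁ a : ℂ)) - (fun a => (ψ₂ a : ℂ)) := rfl
      rw [e3, classInner_sub_right]
    rw [he, classInner_sub_right, classInner_irr_self hμ, classInner_irr_ne hμ hν hne, e2] at e1
    linear_combination -e1
  · intro τ ht1 ht2
    have hext : ∀ g : G, τ (extendByZero i.range (fn hi θ) g) = extendByZero i.range (fn hi θ) g := by
      intro g
      by_cases hg : g ∈ i.range
      · obtain ⟨a, rfl⟩ := hg
        rw [ext_fn]
        simp only [hθ]
        rw [map_sub, ht1, ht2]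
      · rw [extendByZero_of_notMem _ _ hg, map_zero]
    have hD : ∀ g, τ (μ g) - τ (ν g) = μ g - ν g := by
      intro g
      have e1 := congrFun he g
      have e2 : τ (indFun i.range (fn hi θ) g) = indFun i.range (fn hi θ) g := by
        rw [S0150.indFun_apply, map_mul, map_inv₀, map_natCast, map_sum]
        congr 1
        exact Finset.sum_congr rfl fun x _ => hext _
      rw [e1, Pi.sub_apply, map_sub] at e2
      exact e2
    have hμ' := Characters.GaloisIrr.isIrr_map τ hμ
    have hν' := Characters.GaloisIrr.isIrr_map τ hν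
    have hne' : (fun g => τ (μ g)) ≠ (fun g => τ (ν g)) := by
      intro h
      apply hne
      funext g
      exact τ.injective (congrFun h g)
    have e3 : (fun g => τ (μ g)) - (fun g => τ (ν g)) = μ - ν := funext hD
    have e4 : classInner ((fun g => τ (μ g)) - (fun g => τ (ν g))) (fun g => τ (μ g)) =
        classInner (μ - ν) (fun g => τ (μ g)) := by rw [e3]
    rw [classInner_sub_left, classInner_sub_left, classInner_irr_self hμ',
      classInner_irr_ne hν' hμ' hne'.symm] at e4
    by_contra hcon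
    push Not at hcon
    obtain ⟨g, hg⟩ := hcon
    have hne2 : μ ≠ fun g => τ (μ g) := fun h => hg (congrFun h g).symm
    rw [classInner_irr_ne hμ hμ' hne2] at e4
    rcases eq_or_ne ν (fun g => τ (μ g)) with h5 | h5
    · rw [h5, classInner_irr_self hμ'] at e4
      norm_num at e4
    · rw [classInner_irr_ne hν hμ' h5] at e4
      norm_num at e4

end

end Cfsg.Agent.H710.TIPair
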