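import Cfsg.Agent.H710.LtwoRgd
import Cfsg.Agent.Nodes.RGDTwE6

/-!
# `L2` for the groups of type `F₄`, `E₆`, `E₇`, `E₈`, `²E₆` of characteristic two (helper710)
-/

set_option autoImplicit false

namespace Cfsg.Agent.H710.Exc

open Cfsg Cfsg.Lie Cfsg.Agent.Nodes.RGDChev Cfsg.Agent.ChevalleyStructure.CoxeterGeom
  Cfsg.Agent.ChevalleyStructure.CoxeterGeomTypes

theorem l2_group {D : ChevalleyDatum} {l : ℕ} {M : CoxeterMatrix (Fin l)} (hp : IsType D l M) (K : Type*)
    [Field K] [Finite K] [CharP K 2] {i j k : Fin l} (hij : i ≠ j) (hik : k ≠ i) (hjk : k ≠ j)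
    (h1 : cartanOf D l i j ≠ 0) (h2 : cartanOf D l k i = 0) (h3 : cartanOf D l k j = 0) : L2 ↥(D.group K) := by
  have := finite_W hp M.toCoxeterSystem
  have : Fact (Nat.Prime 2) := ⟨Nat.prime_two⟩
  have : Finite (D.group K) := inferInstance
  exact Rgd.l2_of_nodes (rgd (K := K) hp M.toCoxeterSystem 2) hij hik hjk h1 h2 h3

theorem l2_F4 (K : Type*) [Field K] [Finite K] [CharP K 2] : L2 ↥(chevF4.group K) :=
  l2_group (l := 4) (M := CoxeterMatrix.F₄) (by simp [IsType, typeList]) K (i := 0) (j := 1) (k := 3) (by decide)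
    (by decide) (by decide) (by decide +kernel) (by decide +kernel) (by decide +kernel)

theorem l2_E6 (K : Type*) [Field K] [Finite K] [CharP K 2] : L2 ↥(chevE6.group K) :=
  l2_group (l := 6) (M := CoxeterMatrix.E₆) (by simp [IsType, typeList]) K (i := 0) (j := 2) (k := 4) (by decide)
    (by decide) (by decide) (by decide +kernel) (by decide +kernel) (by decide +kernel)

theorem l2_E7 (K : Type*) [Field K] [Finite K] [CharP K 2] : L2 ↥(chevE7.group K) :=
  l2_group (l := 7) (M := CoxeterMatrix.E₇) (by simp [IsType, typeList]) K (i := 0) (j := 2) (k := 4) (by decide)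
    (by decide) (by decide) (by decide +kernel) (by decide +kernel) (by decide +kernel)

theorem l2_E8 (K : Type*) [Field K] [Finite K] [CharP K 2] : L2 ↥(chevE8.group K) :=
  l2_group (l := 8) (M := CoxeterMatrix.E₈) (by simp [IsType, typeList]) K (i := 0) (j := 2) (k := 4) (by decide)
    (by decide) (by decide) (by decide +kernel) (by decide +kernel) (by decide +kernel)

theorem l2_twE6 {K : Type*} [Field K] [Fintype K] [CharP K 2] {q : ℕ} (hq : IsPrimePow q)
    (hK : Fintype.card K = q ^ 2) : L2 ↥(twistedE6 K q) := by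
  obtain ⟨φ, hφ, hqq⟩ := Cfsg.Agent.ChevalleyStructure.TwE6Basic.exists_frob (K := K) hq hK
  have : Fact (Nat.Prime 2) := ⟨Nat.prime_two⟩
  have : Finite (CoxeterMatrix.F₄).Group :=
    finite_W (D := chevF4) (l := 4) (M := CoxeterMatrix.F₄) (by simp [IsType, typeList])
      (CoxeterMatrix.F₄).toCoxeterSystem
  exact Rgd.l2_of_nodes (Cfsg.Agent.Nodes.RGDTwE6.rgd (CoxeterMatrix.F₄).toCoxeterSystem hφ hqq 2) (i := 0)
    (j := 1) (k := 3) (by decide) (by decide) (by decide) (by decide) (by decide) (by decide)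

end Cfsg.Agent.H710.Exc
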