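import Cfsg.Agent.H710.Ltwo
import Cfsg.Prelude.Def_Classical

/-!
# `L2` for `PSL_n(q)`, `q` even, `n ≥ 5` or `n = 4`, `q ≥ 4` (helper710)

* `sh` : the nilpotent shift on the first `b + 1` coordinates, `sh_pow`; `one_add_sh` in `SL_n`;
* `l2_five` : `n ≥ 5`: an element of order `8`;
* `l2_four` : `n = 4`, `q ≥ 4`: an element of order `4` commuting with `diag(a, a, a, a⁻³)`;
* `l2_PSL`.
-/

set_option autoImplicit false

namespace Cfsg.Agent.H710.PSL

open Matrix

variable {n : ℕ} {F : Type*} [Field F]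

/-- the nilpotent shift on the coordinates `0, ..., b` -/
def sh (n : ℕ) (F : Type*) [Field F] (b : ℕ) : Matrix (Fin n) (Fin n) F :=
  Matrix.of fun i j => if (i : ℕ) + 1 = j ∧ (j : ℕ) ≤ b then 1 else 0

theorem sh_apply (b : ℕ) (i j : Fin n) : sh n F b i j = if (i : ℕ) + 1 = j ∧ (j : ℕ) ≤ b then 1 else 0 := rfl

theorem sh_pow (b a : ℕ) (i j : Fin n) :
    (sh n F b ^ (a + 1)) i j = if (i : ℕ) + (a + 1) = j ∧ (j : ℕ) ≤ b then 1 else 0 := by
  induction a generalizing i j with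
  | zero => rw [zero_add, pow_one, sh_apply]
  | succ a ih =>
    rw [pow_succ, Matrix.mul_apply]
    by_cases h : (i : ℕ) + (a + 1 + 1) = j ∧ (j : ℕ) ≤ b
    · rw [if_pos h]
      have hk : (i : ℕ) + (a + 1) < n := by have := j.2; omega
      rw [Finset.sum_eq_single ⟨(i : ℕ) + (a + 1), hk⟩]
      · rw [ih, sh_apply]
        simp only [true_and]
        rw [if_pos (by omega), if_pos ⟨by omega, h.2⟩, one_mul]
      · intro k _ hk'
        rw [ih]
        rw [if_neg, zero_mul]
        rintro ⟨h1, -⟩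
        exact hk' (Fin.ext h1.symm)
      · intro h1
        exact absurd (Finset.mem_univ _) h1
    · rw [if_neg h]
      refine Finset.sum_eq_zero fun k _ => ?_
      rw [ih, sh_apply]
      by_cases h1 : (i : ℕ) + (a + 1) = k ∧ (k : ℕ) ≤ b
      · rw [if_neg (fun h2 : (k : ℕ) + 1 = j ∧ (j : ℕ) ≤ b => h ⟨by omega, h2.2⟩), mul_zero]
      · rw [if_neg h1, zero_mul]

theorem sh_pow_eq_zero {b a : ℕ} (h : b < a) : sh n F b ^ a = 0 := by
  obtain ⟨a', rfl⟩ : ∃ a', a = a' + 1 := ⟨a - 1, by omega⟩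
  ext i j
  rw [sh_pow, if_neg (by omega), Matrix.zero_apply]

theorem det_one_add_sh (b : ℕ) : (1 + sh n F b).det = 1 := by
  rw [Matrix.det_of_isUpperTriangular]
  · refine Finset.prod_eq_one fun i _ => ?_
    rw [Matrix.add_apply, Matrix.one_apply_eq, sh_apply, if_neg (by omega), add_zero]
  · intro i j hij
    have h1 : (j : ℕ) < i := hij
    rw [Matrix.add_apply, Matrix.one_apply_ne (by intro h; rw [h] at h1; omega), sh_apply, if_neg (by omega), add_zero]

/-- the unipotent element `1 + sh` -/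
def un (n : ℕ) (F : Type*) [Field F] (b : ℕ) : SpecialLinearGroup (Fin n) F := ⟨1 + sh n F b, det_one_add_sh b⟩

section CharTwo

variable [CharP F 2]

theorem two_eq (F : Type*) [Field F] [CharP F 2] : (2 : Matrix (Fin n) (Fin n) F) = 0 := by
  have h : (2 : Matrix (Fin n) (Fin n) F) = algebraMap F (Matrix (Fin n) (Fin n) F) 2 := by
    rw [map_ofNat]
  rw [h, CharTwo.two_eq_zero, map_zero]

theorem sq_one_add (A : Matrix (Fin n) (Fin n) F) : (1 + A) ^ 2 = 1 + A ^ 2 := by
  have h : (1 + A) ^ 2 = 1 + 2 * A + A ^ 2 := by noncomm_ring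
  rw [h, two_eq F, zero_mul, add_zero]

omit [CharP F 2] in
theorem val_pow (g : SpecialLinearGroup (Fin n) F) (k : ℕ) : (g ^ k).1 = g.1 ^ k := rfl

theorem pow_un_two (b : ℕ) : (un n F b ^ 2).1 = 1 + sh n F b ^ 2 := by
  rw [val_pow]
  exact sq_one_add _

theorem pow_un_four (b : ℕ) : (un n F b ^ 4).1 = 1 + sh n F b ^ 4 := by
  rw [show (4 : ℕ) = 2 * 2 by norm_num, pow_mul, val_pow, pow_un_two, sq_one_add, ← pow_mul]

theorem pow_un_eight (b : ℕ) : (un n F b ^ 8).1 = 1 + sh n F b ^ 8 := by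
  rw [show (8 : ℕ) = 4 * 2 by norm_num, pow_mul, val_pow, pow_un_four, sq_one_add, ← pow_mul]

end CharTwo

/-- central elements have zero entries off the diagonal -/
theorem entry_of_center {g : SpecialLinearGroup (Fin n) F} (hg : g ∈ Subgroup.center (SpecialLinearGroup (Fin n) F)) :
    ∃ r : F, g.1 = r • 1 := by
  obtain ⟨r, -, hr⟩ := Matrix.SpecialLinearGroup.mem_center_iff.1 hg
  refine ⟨r, ?_⟩
  rw [← hr]
  ext i j
  by_cases hij : i = j
  · subst hij; simp
  · simp [hij]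

/-- `n ≥ 5` -/
theorem l2_five [CharP F 2] (hn : 5 ≤ n) : L2 (ProjectiveSpecialLinearGroup (Fin n) F) := by
  refine L2.of_pow_eight (g := ((un n F 4 : SpecialLinearGroup (Fin n) F) : ProjectiveSpecialLinearGroup (Fin n) F))
    ?_ ?_
  · have h : un n F 4 ^ 8 = 1 := by
      apply Subtype.ext
      rw [pow_un_eight, sh_pow_eq_zero (by norm_num), add_zero]
      rfl
    show ((un n F 4 ^ 8 : SpecialLinearGroup (Fin n) F) : ProjectiveSpecialLinearGroup (Fin n) F) = 1
    rw [h]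
    rfl
  · intro h
    have h1 : un n F 4 ^ 4 ∈ Subgroup.center (SpecialLinearGroup (Fin n) F) := (QuotientGroup.eq_one_iff _).1 h
    obtain ⟨r, hr⟩ := entry_of_center h1
    rw [pow_un_four] at hr
    have h2 := congrFun (congrFun hr ⟨0, by omega⟩) ⟨4, by omega⟩
    rw [Matrix.add_apply, sh_pow, Matrix.smul_apply, Matrix.one_apply_ne (by simp), if_pos (by simp)] at h2
    simp at h2

/-- `n = 4`, `q ≥ 4` -/
theorem l2_four [Fintype F] [CharP F 2] (h4 : 4 ≤ Fintype.card F) :
    L2 (ProjectiveSpecialLinearGroup (Fin 4) F) := by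
  classical
  obtain ⟨a, ha1⟩ : ∃ a : Fˣ, a ≠ 1 := by
    have : 1 < Fintype.card Fˣ := by rw [Fintype.card_units]; omega
    obtain ⟨a, b, hab⟩ := Fintype.one_lt_card_iff.1 this
    by_cases h : a = 1
    · exact ⟨b, fun hb => hab (by rw [h, hb])⟩
    · exact ⟨a, h⟩
  let d : Fin 4 → F := ![(a : F), a, a, ((a⁻¹ : Fˣ) : F) ^ 3]
  have hdet : (Matrix.diagonal d).det = 1 := by
    rw [Matrix.det_diagonal, Fin.prod_univ_four]
    show (a : F) * a * a * ((a⁻¹ : Fˣ) : F) ^ 3 = 1
    have : (a : F) * a * a * ((a⁻¹ : Fˣ) : F) ^ 3 = ((a * a * a * a⁻¹ ^ 3 : Fˣ) : F) := by push_cast; rfl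
    rw [this]
    have h : a * a * a * a⁻¹ ^ 3 = 1 := by group
    rw [h, Units.val_one]
  let y : SpecialLinearGroup (Fin 4) F := ⟨Matrix.diagonal d, hdet⟩
  let x : SpecialLinearGroup (Fin 4) F := un 4 F 2
  have hxy : Commute x y := by
    apply Subtype.ext
    show (1 + sh 4 F 2) * Matrix.diagonal d = Matrix.diagonal d * (1 + sh 4 F 2)
    rw [add_mul, mul_add, one_mul, mul_one]
    congr 1
    ext i j
    rw [Matrix.mul_diagonal, Matrix.diagonal_mul, sh_apply]
    fin_cases i <;> fin_cases j <;> simp [d]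
  have hx4 : x ^ 4 = 1 := by
    apply Subtype.ext
    rw [pow_un_four, sh_pow_eq_zero (by norm_num), add_zero]
    rfl
  have hx2 : x ^ 2 ∉ Subgroup.center (SpecialLinearGroup (Fin 4) F) := by
    intro h1
    obtain ⟨r, hr⟩ := entry_of_center h1
    rw [pow_un_two] at hr
    have h2 := congrFun (congrFun hr 0) 2
    rw [Matrix.add_apply, sh_pow, Matrix.smul_apply, Matrix.one_apply_ne (by decide), if_pos (by decide)] at h2
    simp at h2
  have hcard : Odd (Fintype.card F - 1) := by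
    obtain ⟨m, -, hm⟩ := FiniteField.card F 2
    rw [hm]
    exact Nat.Even.sub_odd Nat.one_le_two_pow ((even_two).pow_of_ne_zero m.2.ne') odd_one
  have hyo : Odd (orderOf y) := by
    have h1 : y ^ (Fintype.card F - 1) = 1 := by
      apply Subtype.ext
      show Matrix.diagonal d ^ (Fintype.card F - 1) = 1
      rw [Matrix.diagonal_pow, ← Matrix.diagonal_one]
      congr 1
      funext i
      have h2 : ∀ c : Fˣ, (c : F) ^ (Fintype.card F - 1) = 1 := fun c => FiniteField.pow_card_sub_one_eq_one _ c.ne_zero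
      fin_cases i
      · exact h2 a
      · exact h2 a
      · exact h2 a
      · show (((a⁻¹ : Fˣ) : F) ^ 3) ^ (Fintype.card F - 1) = 1
        rw [← pow_mul, mul_comm, pow_mul, h2, one_pow]
    exact hcard.of_dvd_nat (orderOf_dvd_of_pow_eq_one h1)
  have hyc : y ∉ Subgroup.center (SpecialLinearGroup (Fin 4) F) := by
    intro h1
    obtain ⟨r, hr⟩ := entry_of_center h1
    have e0 := congrFun (congrFun hr 0) 0
    have e3 := congrFun (congrFun hr 3) 3
    have e0' : (a : F) = r := by simpa [y, d] using e0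
    have e3' : ((a⁻¹ : Fˣ) : F) ^ 3 = r := by simpa [y, d] using e3
    have h5 : (a : F) ^ 4 = 1 := by
      have h6 : (a : F) = ((a⁻¹ : Fˣ) : F) ^ 3 := e0'.trans e3'.symm
      calc (a : F) ^ 4 = a ^ 3 * a := by ring
        _ = a ^ 3 * ((a⁻¹ : Fˣ) : F) ^ 3 := by rw [← h6]
        _ = 1 := by rw [← mul_pow, Units.mul_inv, one_pow]
    have h6 : ((a : F) + 1) ^ 4 = 0 := by
      have h7 : ((a : F) + 1) ^ 4 = (((a : F) + 1) ^ 2) ^ 2 := by ring
      rw [h7, CharTwo.add_sq, CharTwo.add_sq, ← pow_mul, h5, one_pow, one_pow]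
      exact CharTwo.add_self_eq_zero 1
    have h7 : (a : F) + 1 = 0 := by
      by_contra h8
      exact pow_ne_zero 4 h8 h6
    apply ha1
    apply Units.ext
    rw [Units.val_one]
    have h8 : (1 : F) + 1 = 0 := CharTwo.add_self_eq_zero 1
    exact add_right_cancel (h7.trans h8.symm)
  exact quot_four hxy hx4 hx2 hyo hyc

/-- **`PSL_n(q)`, `q` even, `n ≥ 5`, or `n = 4` and `q ≥ 4`.** -/
theorem l2_PSL [Fintype F] [CharP F 2] (hn : 4 ≤ n) (h : n = 4 → 4 ≤ Fintype.card F) :
    L2 (ProjectiveSpecialLinearGroup (Fin n) F) := by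
  by_cases h4 : n = 4
  · subst h4
    exact l2_four (h rfl)
  · exact l2_five (by omega)

end Cfsg.Agent.H710.PSL
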