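import Cfsg.Agent.H710.Ltwo
import Cfsg.Agent.GenPsu.Block

/-!
# `L2` for `PSU_n(q)`, `q` even, `n ≥ 4` (helper710)

An element of order `4` of `SU₃(q)` and the diagonal element `diag(a, a, a, a⁻³)`, `a ^ (q + 1) = 1`.
-/

set_option autoImplicit false

namespace Cfsg.Agent.H710.PSU

open Matrix Cfsg Cfsg.Agent.Phan Cfsg.Agent.LieClassical.HermBasic
open Cfsg.Agent.LieClassical.SUBasic (suDiag exists_norm_one mem_center_SU_iff)

variable {F : Type*} [Field F] [Fintype F] [CharP F 2] {q : ℕ}

/-- the matrix of order `4` -/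
def um (b : F) : Matrix (Fin 3) (Fin 3) F := !![1 + b, b, 1; b, 1 + b, 1; 1, 1, 1]

omit [Fintype F] in
theorem um_det (b : F) : (um b).det = 1 := by
  have h2 : (2 : F) = 0 := CharTwo.two_eq_zero
  rw [um, Matrix.det_fin_three]
  simp only [Matrix.of_apply, Matrix.cons_val', Matrix.cons_val_zero, Matrix.cons_val_one, Matrix.cons_val,
    Matrix.cons_val_fin_one]
  linear_combination (b - 1) * h2

/-- its square is a transposition -/
def um2 : Matrix (Fin 3) (Fin 3) F := !![0, 1, 0; 1, 0, 0; 0, 0, 1]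

omit [Fintype F] in
theorem um_sq (b : F) : um b * um b = um2 := by
  have h2 : (2 : F) = 0 := CharTwo.two_eq_zero
  ext i j
  fin_cases i <;> fin_cases j <;> simp [um, um2, Matrix.mul_apply, Fin.sum_univ_three]
  · linear_combination (1 + b + b ^ 2) * h2
  · linear_combination (b + b ^ 2) * h2
  · linear_combination (1 + b) * h2
  · linear_combination (b + b ^ 2) * h2
  · linear_combination (1 + b + b ^ 2) * h2
  · linear_combination (1 + b) * h2
  · linear_combination (1 + b) * h2
  · linear_combination (1 + b) * h2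
  · linear_combination h2

omit [Fintype F] [CharP F 2] in
theorem um2_sq : (um2 : Matrix (Fin 3) (Fin 3) F) * um2 = 1 := by
  ext i j
  fin_cases i <;> fin_cases j <;> simp [um2, Matrix.mul_apply, Fin.sum_univ_three]

theorem um_isom (hF : Fintype.card F = q ^ 2) {b : F} (hb : b + b ^ q = 1) (u v : Fin 3 → F) :
    hermForm 3 F q (um b *ᵥ u) (um b *ᵥ v) = hermForm 3 F q u v := by
  revert u v
  rw [Cfsg.Agent.LieClassical.GUOrder.mul_map_eq_one_iff hF]
  have h2 : (2 : F) = 0 := CharTwo.two_eq_zero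
  have hbq : b ^ q = 1 + b := by linear_combination hb - b * h2
  have h1q : (1 + b) ^ q = b := by
    rw [add_pow_q hF, one_pow, hbq]
    linear_combination h2
  have hmap : (um b).map (Cfsg.Agent.LieClassical.GUOrder.frob hF) = !![b, 1 + b, 1; 1 + b, b, 1; 1, 1, 1] := by
    ext i j
    rw [Matrix.map_apply, Cfsg.Agent.LieClassical.GUOrder.frob_apply]
    fin_cases i <;> fin_cases j <;> simp [um, h1q, hbq]
  rw [hmap]
  ext i j
  fin_cases i <;> fin_cases j <;> simp [um, Matrix.mul_apply, Fin.sum_univ_three]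
  · linear_combination (b + b ^ 2) * h2
  · linear_combination (1 + b + b ^ 2) * h2
  · linear_combination (1 + b) * h2
  · linear_combination (1 + b + b ^ 2) * h2
  · linear_combination (b + b ^ 2) * h2
  · linear_combination (1 + b) * h2
  · linear_combination (1 + b) * h2
  · linear_combination (1 + b) * h2
  · linear_combination h2

/-- the element of order `4` of `SU₃` -/
def ue (hF : Fintype.card F = q ^ 2) {b : F} (hb : b + b ^ q = 1) : SU 3 F q :=
  mk (um b) (um_det b) (um_isom hF hb)

theorem ue_four (hF : Fintype.card F = q ^ 2) {b : F} (hb : b + b ^ q = 1) : ue hF hb ^ 4 = 1 := by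
  apply mat_inj
  rw [show (4 : ℕ) = 2 * 2 by norm_num, pow_mul, pow_two, pow_two, mat_mul, mat_mul]
  show um b * um b * (um b * um b) = 1
  rw [um_sq, um2_sq]

theorem ue_sq_ne (hF : Fintype.card F = q ^ 2) {b : F} (hb : b + b ^ q = 1) : ue hF hb ^ 2 ≠ 1 := by
  intro h
  have h1 : um b * um b = 1 := by
    have := congrArg mat h
    rwa [pow_two, mat_mul] at this
  rw [um_sq] at h1
  have h2 := congrFun (congrFun h1 0) 1
  simp [um2] at h2

/-- the inclusion of the first three coordinates -/
def e3 : Fin 3 → Fin 4 := Fin.castSucc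

theorem e3_inj : Function.Injective e3 := Fin.castSucc_injective 3

theorem e3_ne (i : Fin 3) : (3 : Fin 4) ≠ e3 i := by
  fin_cases i <;> decide

theorem odd_add_one (hF : Fintype.card F = q ^ 2) : Odd (q + 1) := by
  obtain ⟨n, -, hn⟩ := FiniteField.card F 2
  have h1 : Even (q ^ 2) := by
    rw [← hF, hn]
    exact (even_two).pow_of_ne_zero n.2.ne'
  have h2 : Even q := by
    rcases Nat.even_or_odd q with h | h
    · exact h
    · exact absurd h1 (Nat.not_even_iff_odd.2 (h.pow))
  exact h2.add_one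

/-- **`PSU_n(q)`, `q` even, `n ≥ 4`.** -/
theorem l2_PSU (hF : Fintype.card F = q ^ 2) {n : ℕ} (hn : 4 ≤ n) : L2 (PSU n F q) := by
  obtain ⟨b, hb⟩ := exists_trace_eq hF (c := (1 : F)) (one_pow q)
  obtain ⟨a, ha, ha1⟩ := exists_norm_one hF
  have ha0 : a ≠ 0 := by
    rintro rfl
    rw [zero_pow (by omega)] at ha
    exact zero_ne_one ha
  let d : Fin 4 → F := ![a, a, a, a⁻¹ ^ 3]
  have hd : ∏ i, d i = 1 := by
    rw [Fin.prod_univ_four]
    show a * a * a * a⁻¹ ^ 3 = 1
    field_simp
  have hda : ∀ i, d i ^ (q + 1) = 1 := by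
    intro i
    fin_cases i
    · exact ha
    · exact ha
    · exact ha
    · show (a⁻¹ ^ 3) ^ (q + 1) = 1
      rw [← pow_mul, mul_comm, pow_mul, inv_pow, ha, inv_one, one_pow]
  let y : SU 4 F q := suDiag q d hd hda
  have hy : mat y = Matrix.diagonal d := rfl
  let x : SU 4 F q := ext hF e3 e3_inj (ue hF hb)
  have hxy : Commute x y := by
    refine Cfsg.Agent.GenPsu.ext_comm_diag hF e3_inj (a := a) (b := a⁻¹ ^ 3) (d := d) (fun i => ?_) (fun i hi => ?_) hy _
    · fin_cases i <;> rfl
    · fin_cases i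
      · exact absurd ⟨0, rfl⟩ hi
      · exact absurd ⟨1, rfl⟩ hi
      · exact absurd ⟨2, rfl⟩ hi
      · rfl
  have hx4 : x ^ 4 = 1 := by rw [← map_pow, ue_four, map_one]
  have hx2 : x ^ 2 ∉ Subgroup.center (SU 4 F q) := by
    rw [← map_pow]
    intro h
    exact ue_sq_ne hF hb (Cfsg.Agent.GenPsu.ext_center hF e3_inj (by norm_num) e3_ne h)
  have hyc : y ∉ Subgroup.center (SU 4 F q) := by
    intro h
    obtain ⟨r, hr, hr', h1⟩ := (mem_center_SU_iff hF (by norm_num) _).1 h
    have h2 : Matrix.diagonal d = Matrix.diagonal fun _ => r := congrArg mat h1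
    have h3 := Matrix.diagonal_injective h2
    have e0 : a = r := congrFun h3 0
    have e1 : a⁻¹ ^ 3 = r := congrFun h3 3
    have h5 : a ^ 4 = 1 := by
      calc a ^ 4 = a ^ 3 * a := by ring
        _ = a ^ 3 * a⁻¹ ^ 3 := by rw [e1, ← e0]
        _ = 1 := by rw [← mul_pow, mul_inv_cancel₀ ha0, one_pow]
    apply ha1
    have h6 : (a + 1) ^ 4 = 0 := by
      have h7 : (a + 1) ^ 4 = ((a + 1) ^ 2) ^ 2 := by ring
      rw [h7, CharTwo.add_sq, CharTwo.add_sq, ← pow_mul, h5, one_pow, one_pow]
      exact CharTwo.add_self_eq_zero 1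
    have h7 : a + 1 = 0 := by
      by_contra h8
      exact pow_ne_zero 4 h8 h6
    have h8 : (1 : F) + 1 = 0 := CharTwo.add_self_eq_zero 1
    exact add_right_cancel (h7.trans h8.symm)
  have hyo : Odd (orderOf y) := by
    refine (odd_add_one hF).of_dvd_nat (orderOf_dvd_of_pow_eq_one ?_)
    apply mat_inj
    have h1 : ∀ k : ℕ, mat (y ^ k) = Matrix.diagonal d ^ k := by
      intro k
      induction k with
      | zero => rw [pow_zero, pow_zero, mat_one]
      | succ k ih => rw [pow_succ, pow_succ, mat_mul, ih, hy]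
    rw [h1, Matrix.diagonal_pow, mat_one, ← Matrix.diagonal_one]
    congr 1
    funext i
    exact hda i
  -- transport to `SU_n`
  have hinj : Function.Injective (emb (F := F) (q := q) hF 0 (show 0 + 4 ≤ n by omega)) := emb_injective hF 0 _
  have hcen : ∀ z : SU 4 F q, z ∉ Subgroup.center (SU 4 F q) →
      emb hF 0 (show 0 + 4 ≤ n by omega) z ∉ Subgroup.center (SU n F q) := by
    intro z hz hc
    apply hz
    rw [Subgroup.mem_center_iff]
    intro g
    apply hinj
    rw [map_mul, map_mul]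
    exact Subgroup.mem_center_iff.1 hc _
  exact quot_four (x := emb hF 0 (show 0 + 4 ≤ n by omega) x) (y := emb hF 0 (show 0 + 4 ≤ n by omega) y)
    (hxy.map _) (by rw [← map_pow, hx4, map_one]) (by rw [← map_pow]; exact hcen _ hx2)
    (by rw [orderOf_injective _ hinj]; exact hyo) (hcen _ hyc)

end Cfsg.Agent.H710.PSU
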