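import Cfsg.Agent.H710.LtwoSL2
import Cfsg.Agent.OddTab.GpThree
import Cfsg.Agent.LieClassical.SpFourTwo
import Cfsg.Prelude.Def_Classical

/-!
# `L2` for `PSp_{2m}(q)`, `q` even, `m ≥ 3` or `m = 2`, `q ≥ 8` (helper710)
-/

set_option autoImplicit false

namespace Cfsg.Agent.H710.PSp

open Matrix Cfsg Cfsg.Agent.OddTab.BlockSp Cfsg.Agent.LieClassical.SpFourTwo

/-! ### An element of order `8` of `Sp₆(2)` -/

/-- the matrix of the element of order `8` -/
def g1 : Matrix (Fin 3 ⊕ Fin 3) (Fin 3 ⊕ Fin 3) (ZMod 2) :=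
  fromBlocks !![1, 1, 0; 0, 1, 1; 0, 0, 1] !![0, 0, 0; 0, 0, 1; 0, 0, 1] 0 !![1, 0, 0; 1, 1, 0; 1, 1, 1]

/-- its fourth power -/
def g4 : Matrix (Fin 3 ⊕ Fin 3) (Fin 3 ⊕ Fin 3) (ZMod 2) :=
  fromBlocks 1 !![0, 1, 0; 1, 0, 0; 0, 0, 0] 0 1

/-- its square -/
def g2 : Matrix (Fin 3 ⊕ Fin 3) (Fin 3 ⊕ Fin 3) (ZMod 2) :=
  fromBlocks !![1, 0, 1; 0, 1, 0; 0, 0, 1] !![0, 0, 1; 1, 1, 1; 1, 1, 0] 0 !![1, 0, 0; 0, 1, 0; 1, 0, 1]

theorem g1_sq : g1 * g1 = g2 := by decide +kernel
theorem g2_sq : g2 * g2 = g4 := by decide +kernel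
theorem g4_sq : g4 * g4 = 1 := by decide +kernel
theorem g1_mem : g1 ∈ symplecticGroup (Fin 3) (ZMod 2) := by
  rw [SymplecticGroup.mem_iff]
  decide +kernel
theorem J_mem' : J (Fin 3) (ZMod 2) ∈ symplecticGroup (Fin 3) (ZMod 2) := SymplecticGroup.J_mem _ _
theorem not_comm : g4 * J (Fin 3) (ZMod 2) ≠ J (Fin 3) (ZMod 2) * g4 := by decide +kernel

/-- the element of order `8` -/
def ge : symplecticGroup (Fin 3) (ZMod 2) := ⟨g1, g1_mem⟩

theorem ge_four : (ge ^ 4).1 = g4 := by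
  show g1 ^ 4 = g4
  rw [show (4 : ℕ) = 2 * 2 by norm_num, pow_mul, pow_two g1, g1_sq, pow_two, g2_sq]

theorem ge_eight : ge ^ 8 = 1 := by
  apply Subtype.ext
  show g1 ^ 8 = 1
  rw [show (8 : ℕ) = 2 * 2 * 2 by norm_num, pow_mul, pow_mul, pow_two g1, g1_sq, pow_two g2, g2_sq, pow_two, g4_sq]

theorem ge_ne : ge ^ 4 * ⟨J (Fin 3) (ZMod 2), J_mem'⟩ ≠ ⟨J (Fin 3) (ZMod 2), J_mem'⟩ * ge ^ 4 := by
  intro h
  have h1 := congrArg Subtype.val h
  have h2 : (ge ^ 4).1 * J (Fin 3) (ZMod 2) = J (Fin 3) (ZMod 2) * (ge ^ 4).1 := h1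
  rw [ge_four] at h2
  exact not_comm h2

theorem emb_injective {F : Type} [Field F] {k l : ℕ} : Function.Injective (emb k l F) := by
  intro A B h
  apply Subtype.ext
  have h1 := emb_coe (l := l) A
  rw [h, emb_coe] at h1
  exact (fromBlocks_inj.1 h1).1.symm

theorem symplecticMap_injective {l R S : Type*} [Fintype l] [DecidableEq l] [CommRing R] [CommRing S]
    {f : R →+* S} (hf : Function.Injective f) : Function.Injective (symplecticMap (l := l) f) := by
  intro A B h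
  apply Subtype.ext
  have h1 : A.1.map f = B.1.map f := congrArg Subtype.val h
  ext i j
  exact hf (congrFun (congrFun h1 i) j)

/-- `m ≥ 3` -/
theorem l2_three {F : Type} [Field F] [CharP F 2] (l : ℕ) : L2 (PSp (3 + l) F) := by
  have hinj : Function.Injective (ZMod.castHom (dvd_refl 2) F) := RingHom.injective _
  exact quot_eight_of_hom ((emb 3 l F).comp (symplecticMap (ZMod.castHom (dvd_refl 2) F)))
    (emb_injective.comp (symplecticMap_injective hinj)) ge_eight ge_ne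

/-! ### Commuting `SL₂(q)` -/

section Pi

variable {F : Type*} [Field F] {m : ℕ}

/-- the matrix of a family of elements of `SL₂` -/
def pm (g : Fin m → Matrix (Fin 2) (Fin 2) F) : Matrix (Fin m ⊕ Fin m) (Fin m ⊕ Fin m) F :=
  fromBlocks (diagonal fun i => g i 0 0) (diagonal fun i => g i 0 1) (diagonal fun i => g i 1 0)
    (diagonal fun i => g i 1 1)

theorem pm_mul (g h : Fin m → Matrix (Fin 2) (Fin 2) F) : pm (fun i => g i * h i) = pm g * pm h := by
  unfold pm
  rw [fromBlocks_multiply]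
  simp only [diagonal_mul_diagonal, diagonal_add, Matrix.mul_apply, Fin.sum_univ_two]

theorem pm_one : pm (fun _ : Fin m => (1 : Matrix (Fin 2) (Fin 2) F)) = 1 := by
  unfold pm
  simp

theorem pm_mem (g : Fin m → SpecialLinearGroup (Fin 2) F) :
    pm (fun i => (g i).1) ∈ symplecticGroup (Fin m) F := by
  rw [SymplecticGroup.mem_iff]
  have hd : ∀ i, (g i).1 0 0 * (g i).1 1 1 - (g i).1 0 1 * (g i).1 1 0 = 1 := fun i => by
    rw [← Matrix.det_fin_two]
    exact (g i).2
  unfold pm J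
  rw [fromBlocks_multiply, fromBlocks_transpose, fromBlocks_multiply]
  simp only [diagonal_transpose, Matrix.mul_zero, Matrix.mul_one, Matrix.mul_neg, zero_add, add_zero,
    diagonal_mul_diagonal, Matrix.neg_mul]
  have key : ∀ (u v : Fin m → F) (c : F), (∀ i, u i - v i = c) →
      diagonal u + -diagonal v = c • (1 : Matrix (Fin m) (Fin m) F) := by
    intro u v c h
    ext i j
    by_cases hij : i = j
    · subst hij
      simp [← h i, sub_eq_add_neg]
    · simp [hij]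
  have e1 : (diagonal fun i => (g i).1 0 1 * (g i).1 0 0) + -(diagonal fun i => (g i).1 0 0 * (g i).1 0 1) = 0 := by
    rw [key _ _ 0 (fun i => by ring), zero_smul]
  have e2 : (diagonal fun i => (g i).1 0 1 * (g i).1 1 0) + -(diagonal fun i => (g i).1 0 0 * (g i).1 1 1) = -1 := by
    rw [key _ _ (-1) (fun i => by linear_combination -(hd i)), neg_one_smul]
  have e3 : (diagonal fun i => (g i).1 1 1 * (g i).1 0 0) + -(diagonal fun i => (g i).1 1 0 * (g i).1 0 1) = 1 := by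
    rw [key _ _ 1 (fun i => by linear_combination hd i), one_smul]
  have e4 : (diagonal fun i => (g i).1 1 1 * (g i).1 1 0) + -(diagonal fun i => (g i).1 1 0 * (g i).1 1 1) = 0 := by
    rw [key _ _ 0 (fun i => by ring), zero_smul]
  rw [e1, e2, e3, e4]

/-- `SL₂(F) ^ m → Sp_{2m}(F)` -/
def pis : (Fin m → SpecialLinearGroup (Fin 2) F) →* symplecticGroup (Fin m) F where
  toFun g := ⟨pm (fun i => (g i).1), pm_mem g⟩
  map_one' := Subtype.ext pm_one
  map_mul' _ _ := Subtype.ext (pm_mul _ _)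

theorem pis_injective : Function.Injective (pis (F := F) (m := m)) := by
  intro g h e
  have h1 : pm (fun i => (g i).1) = pm (fun i => (h i).1) := congrArg Subtype.val e
  unfold pm at h1
  obtain ⟨e1, e2, e3, e4⟩ := fromBlocks_inj.1 h1
  funext i
  apply Subtype.ext
  ext a b
  fin_cases a <;> fin_cases b
  · exact congrFun (diagonal_injective e1) i
  · exact congrFun (diagonal_injective e2) i
  · exact congrFun (diagonal_injective e3) i
  · exact congrFun (diagonal_injective e4) i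

end Pi

/-- `m = 2`, `q ≥ 8` -/
theorem l2_two {F : Type*} [Field F] [Fintype F] [CharP F 2] (h8 : 8 ≤ Fintype.card F) : L2 (PSp 2 F) := by
  set C := Subgroup.center (symplecticGroup (Fin 2) F) with hC
  let π : symplecticGroup (Fin 2) F →* PSp 2 F := QuotientGroup.mk' C
  let up : SpecialLinearGroup (Fin 2) F := ⟨!![1, 1; 0, 1], by simp [Matrix.det_fin_two]⟩
  let lo : SpecialLinearGroup (Fin 2) F := ⟨!![1, 0; 1, 1], by simp [Matrix.det_fin_two]⟩
  have hul : up * lo ≠ lo * up := by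
    intro h
    have h1 : (!![1, 1; 0, 1] * !![1, 0; 1, 1] : Matrix (Fin 2) (Fin 2) F) = !![1, 0; 1, 1] * !![1, 1; 0, 1] :=
      congrArg Subtype.val h
    have h2 := congrFun (congrFun h1 1) 1
    simp [Matrix.mul_apply, Fin.sum_univ_two] at h2
  have hup2 : up ^ 2 = 1 := by
    apply Subtype.ext
    show (!![1, 1; 0, 1] : Matrix (Fin 2) (Fin 2) F) ^ 2 = 1
    have h2 : (1 : F) + 1 = 0 := CharTwo.add_self_eq_zero 1
    rw [pow_two, Matrix.mul_fin_two]
    ext i j
    fin_cases i <;> fin_cases j <;> simp [h2]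
  have key : ∀ i : Fin 2, π (pis (Pi.mulSingle i up)) ≠ 1 := by
    intro i h
    have h1 : pis (Pi.mulSingle i up) ∈ C := (QuotientGroup.eq_one_iff _).1 h
    have h2 := Subgroup.mem_center_iff.1 h1 (pis (Pi.mulSingle i lo))
    rw [← map_mul, ← map_mul, ← Pi.mulSingle_mul, ← Pi.mulSingle_mul] at h2
    have h3 := congrFun (pis_injective h2) i
    rw [Pi.mulSingle_eq_same, Pi.mulSingle_eq_same] at h3
    exact hul h3.symm
  let φ : SpecialLinearGroup (Fin 2) F →* PSp 2 F :=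
    (π.comp pis).comp (MonoidHom.mulSingle (fun _ : Fin 2 => SpecialLinearGroup (Fin 2) F) 1)
  have hord : orderOf (π (pis (Pi.mulSingle 0 up))) = 2 := by
    refine orderOf_eq_prime ?_ (key 0)
    rw [← map_pow, ← map_pow, ← Pi.mulSingle_pow, hup2, Pi.mulSingle_one, map_one, map_one]
  refine SLTwo.l2_of_comp h8 φ (g := up) (key 1) (x := π (pis (Pi.mulSingle 0 up))) (by rw [hord]; norm_num)
    (by rw [hord]) ?_
  intro g
  have hc : Commute (Pi.mulSingle (M := fun _ : Fin 2 => SpecialLinearGroup (Fin 2) F) 0 up) (Pi.mulSingle 1 g) :=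
    Pi.mulSingle_commute (by decide) _ _
  exact (hc.map pis).map π

/-- **`PSp_{2m}(q)`, `q` even, `m ≥ 3` or `m = 2`, `q ≥ 8`.** -/
theorem l2_PSp {F : Type} [Field F] [Fintype F] [CharP F 2] {m : ℕ} (hm : 2 ≤ m) (h : m = 2 → 8 ≤ Fintype.card F) :
    L2 (PSp m F) := by
  by_cases h2 : m = 2
  · subst h2
    exact l2_two (h rfl)
  · obtain ⟨l, rfl⟩ : ∃ l, m = 3 + l := ⟨m - 3, by omega⟩
    exact l2_three l

end Cfsg.Agent.H710.PSp
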