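import Cfsg.Agent.H710.LtwoSL2
import Cfsg.Agent.BiChar.TwDFour
import Cfsg.Agent.Nodes.Bruhat

/-!
# `L2` for `³D₄(q)`, `q` even (helper710)

The root group of the highest root commutes with `SL₂(q³)` at the short node, and `q³ ≥ 8`.
-/

set_option autoImplicit false
set_option linter.unusedSectionVars false

namespace Cfsg.Agent.H710.TwD4

open CoxeterSystem Cfsg.Agent.ChevalleyStructure.CoxeterGeom Cfsg.Agent.Tits.Roots Cfsg.Agent.Tits.Core
  Cfsg.Agent.Tits.RootComb Cfsg.Agent.Nodes.Comb Cfsg.Agent.Nodes.Reps Cfsg.Agent.Nodes.BNOf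
  Cfsg.Agent.Nodes.BNOf.RGD Cfsg.Agent.Nodes.RGDChev Cfsg.Agent.Nodes.RGDFold
open Cfsg.Lie Cfsg.Agent.ChevalleyStructure Cfsg.Agent.ChevalleyStructure.TwistedU
open Cfsg.Agent.Nodes.RGDFoldSL
open Cfsg.Agent.ChevalleyStructure.SL2Hom (up lo mem_closure_SL2)
open Cfsg.Agent.BiChar.TwDFour

/-- the highest relative root -/
def hi : Fin 2 → ℤ := ![2, 3]

theorem hi_eq : rep cs Nodes.RGDTwD4.isCartan (cs.simple 0) (rep cs Nodes.RGDTwD4.isCartan (cs.simple 1) (sr 0)) = hi := by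
  rw [rep_simple_eq, rep_simple_eq]
  decide +kernel

theorem isRoot_hi : IsRoot cs Nodes.RGDTwD4.isCartan hi := by
  rw [← hi_eq]
  exact ((isRoot_sr cs Nodes.RGDTwD4.isCartan 0).act _).act _

theorem cls_hi : ∀ k < chevD4.nroots, (V chevD4 Nodes.RGDTwD4.J k = hi ↔ k ∈ [23]) := by decide +kernel

theorem comm_check : ∀ r ∈ [18, 13, 12, 5, 10, 11], r < chevD4.nroots ∧ 23 ≠ r ∧
    23 ≠ chevD4.neg r ∧ chevD4.commTerms r 23 = [] := by decide +kernel

theorem comm_xG {K : Type*} [Field K] {r : ℕ} (hr : r ∈ [18, 13, 12, 5, 10, 11]) (t u : K) :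
    Elts.xG Nodes.RGDTwD4.hp.inList 23 u * Elts.xG Nodes.RGDTwD4.hp.inList r t =
      Elts.xG Nodes.RGDTwD4.hp.inList r t * Elts.xG Nodes.RGDTwD4.hp.inList 23 u := by
  obtain ⟨h1, h2, h3, h4⟩ := comm_check r hr
  have h5 := Nodes.RGDChev.comm_xG Nodes.RGDTwD4.hp h1 (show 23 < chevD4.nroots by decide) h2 h3 (-t) (-u)
  have h6 : chevD4.commWord K r 23 (-t) (-u) = [] := by
    show (chevD4.commTerms r 23).map _ = []
    rw [h4, List.map_nil]
  rw [h6, Elts.wordG_nil, commutatorElement_eq_one_iff_mul_comm, Elts.xG_inv, Elts.xG_inv, _root_.neg_neg,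
    _root_.neg_neg] at h5
  exact h5

theorem rspan_comm {K : Type*} [Field K] {A : List ℕ} (hA : ∀ r ∈ A, r ∈ [18, 13, 12, 5, 10, 11])
    {x y : GL chevD4.Idx K} (hx : x ∈ rspan (Elts.xG (F := K) Nodes.RGDTwD4.hp.inList) {k | k ∈ [23]})
    (hy : y ∈ rspan (Elts.xG (F := K) Nodes.RGDTwD4.hp.inList) {k | k ∈ A}) : x * y = y * x := by
  have h1 : rspan (Elts.xG (F := K) Nodes.RGDTwD4.hp.inList) {k | k ∈ [23]} ≤
      Subgroup.centralizer (rspan (Elts.xG (F := K) Nodes.RGDTwD4.hp.inList) {k | k ∈ A} : Set _) := by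
    rw [Subgroup.le_centralizer_iff]
    refine (Subgroup.closure_le _).2 ?_
    rintro _ ⟨r, hr, t, rfl⟩
    rw [SetLike.mem_coe, Subgroup.mem_centralizer_iff]
    intro z hz
    refine Subgroup.closure_induction (p := fun z _ => z * Elts.xG Nodes.RGDTwD4.hp.inList r t =
      Elts.xG Nodes.RGDTwD4.hp.inList r t * z) ?_ ?_ ?_ ?_ hz
    · rintro _ ⟨s, hs, u, rfl⟩
      have hs' : s = 23 := by simpa using hs
      subst hs'
      exact comm_xG (hA r hr) t u
    · rw [one_mul, mul_one]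
    · intro a b _ _ ha hb
      rw [mul_assoc, hb, ← mul_assoc, ha, mul_assoc]
    · intro a _ ha
      have : Commute a (Elts.xG Nodes.RGDTwD4.hp.inList r t) := ha
      exact this.inv_left
  exact ((Subgroup.mem_centralizer_iff.1 (h1 hx)) y hy).symm

variable {K : Type} [Field K] {q : ℕ}

/-- **`³D₄(q)`, `q` even.** -/
theorem l2 [Fintype K] [CharP K 2] (hq : IsPrimePow q) (hK : Fintype.card K = q ^ 3) : L2 ↥(twistedD4 K q) := by
  have h2p : Fact (Nat.Prime 2) := ⟨Nat.prime_two⟩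
  obtain ⟨φ, hφ⟩ := D4Fixed.exists_frob hq hK
  have hle := D4Fixed.twisted_le_fix hK hφ
  have : Finite CoxeterMatrix.G₂.Group := Nodes.RGDChev.finite_W Cfsg.Agent.BiChar.GTwo.isType cs
  have := Fintype.ofFinite CoxeterMatrix.G₂.Group
  have Rg := Nodes.RGDTwD4.rgd (K := K) cs hK hφ 2
  -- the element of the highest root
  obtain ⟨x, hx, hx1⟩ : ∃ x ∈ Nodes.RGDTwD4.X φ q hi, x ≠ 1 := by
    by_contra hcon
    push Not at hcon
    exact Nodes.Bruhat.X_ne_bot Rg isRoot_hi ((Subgroup.eq_bot_iff_forall _).2 hcon)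
  have hx2 : 2 ∣ orderOf x := by
    obtain ⟨k, hk⟩ := (Rg.pgrp' isRoot_hi) ⟨x, hx⟩
    have h1 : x ^ 2 ^ k = 1 := by simpa using congrArg Subtype.val hk
    obtain ⟨j, hj, hj2⟩ := (Nat.dvd_prime_pow Nat.prime_two).1 (orderOf_dvd_of_pow_eq_one h1)
    rw [hj2]
    rcases j with _ | j
    · rw [pow_zero, orderOf_eq_one_iff] at hj2
      exact absurd hj2 hx1
    · exact ⟨2 ^ j, by ring⟩
  have hxs : (x : GL chevD4.Idx K) ∈ rspan (Elts.xG (F := K) Nodes.RGDTwD4.hp.inList) {k | k ∈ [23]} := by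
    have h1 : (x : GL chevD4.Idx K) ∈ R chevD4 Nodes.RGDTwD4.hp K Nodes.RGDTwD4.J (D4Fixed.sig φ) hi :=
      Subgroup.mem_subgroupOf.1 hx
    rw [R_eq cls_hi (by decide +kernel)] at h1
    exact h1.1
  have hcomm : ∀ g : Matrix.SpecialLinearGroup (Fin 2) (Fx φ ((Nodes.RGDTwNode.D4.rest 1).length + 1)),
      Commute x (Ph hφ hle 1 g) := by
    intro g
    have h1 : Ph hφ hle 1 g ∈ Nodes.RGDTwD4.X φ q (sr 1) ⊔ Nodes.RGDTwD4.X φ q (-sr 1) := by
      rw [← range_Ph hφ hle hK 1]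
      exact ⟨g, rfl⟩
    have h2 : Nodes.RGDTwD4.X φ q (sr 1) ⊔ Nodes.RGDTwD4.X φ q (-sr 1) ≤ Subgroup.centralizer {x} := by
      refine sup_le ?_ ?_
      · intro y hy
        rw [Subgroup.mem_centralizer_singleton_iff]
        have h3 : (y : GL chevD4.Idx K) ∈ R chevD4 Nodes.RGDTwD4.hp K Nodes.RGDTwD4.J (D4Fixed.sig φ) (sr 1) :=
          Subgroup.mem_subgroupOf.1 hy
        rw [R_eq Nodes.RGDTwD4.cls1 (by decide +kernel)] at h3
        exact Subtype.ext (rspan_comm (A := [18, 13, 12]) (by decide) hxs h3.1).symm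
      · intro y hy
        rw [Subgroup.mem_centralizer_singleton_iff]
        have h3 : (y : GL chevD4.Idx K) ∈ R chevD4 Nodes.RGDTwD4.hp K Nodes.RGDTwD4.J (D4Fixed.sig φ) (-sr 1) :=
          Subgroup.mem_subgroupOf.1 hy
        rw [R_eq Nodes.RGDTwD4.cls1' (by decide +kernel)] at h3
        exact Subtype.ext (rspan_comm (A := [5, 10, 11]) (by decide) hxs h3.1).symm
    exact (Subgroup.mem_centralizer_singleton_iff.1 (h2 h1)).symm
  -- the field
  have hfin : Finite (Fx φ ((Nodes.RGDTwNode.D4.rest 1).length + 1)) := inferInstance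
  letI := Fintype.ofFinite (Fx φ ((Nodes.RGDTwNode.D4.rest 1).length + 1))
  have hch : CharP (Fx φ ((Nodes.RGDTwNode.D4.rest 1).length + 1)) 2 :=
    (RingHom.charP_iff _ (Fx φ ((Nodes.RGDTwNode.D4.rest 1).length + 1)).subtype.injective 2).2 inferInstance
  have hcard : 8 ≤ Fintype.card (Fx φ ((Nodes.RGDTwNode.D4.rest 1).length + 1)) := by
    have h1 : Nat.card (Fx φ ((Nodes.RGDTwNode.D4.rest 1).length + 1)) = Nat.card K :=
      Nat.card_congr (Equiv.subtypeUnivEquiv fun t => mem_Fx_three hK hφ t)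
    rw [← Nat.card_eq_fintype_card, h1, Nat.card_eq_fintype_card, hK]
    calc 8 = 2 ^ 3 := by norm_num
      _ ≤ q ^ 3 := Nat.pow_le_pow_left hq.two_le 3
  have hne : Ph hφ hle 1 (up 1) ≠ 1 := by
    intro h
    have h3 : Nodes.RGDTwD4.X φ q (sr 1) = ⊥ := by
      rw [Subgroup.eq_bot_iff_forall]
      intro y hy
      obtain ⟨a, rfl⟩ := (mem_X hφ hle 1 y).1 hy
      have hk : (Ph hφ hle 1).ker = ⊤ := by
        have hs := Cfsg.Agent.OddCyclic.FFBasic.isSimpleGroup_sl2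
          (F := Fx φ ((Nodes.RGDTwNode.D4.rest 1).length + 1)) (by omega)
        rcases hs.eq_bot_or_eq_top_of_normal (Ph hφ hle 1).ker inferInstance with h1 | h1
        · exfalso
          have h4 : (up 1 : Matrix.SpecialLinearGroup (Fin 2)
              (Fx φ ((Nodes.RGDTwNode.D4.rest 1).length + 1))) ∈ (Ph hφ hle 1).ker := h
          rw [h1, Subgroup.mem_bot] at h4
          have h5 := congrArg (fun g : Matrix.SpecialLinearGroup (Fin 2)
            (Fx φ ((Nodes.RGDTwNode.D4.rest 1).length + 1)) => g.1 0 1) h4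
          simp [up] at h5
        · exact h1
      have : (up a : Matrix.SpecialLinearGroup (Fin 2) (Fx φ ((Nodes.RGDTwNode.D4.rest 1).length + 1))) ∈
          (Ph hφ hle 1).ker := by rw [hk]; trivial
      exact this
    exact Nodes.Bruhat.X_ne_bot Rg (isRoot_sr cs Nodes.RGDTwD4.isCartan 1) h3
  exact SLTwo.l2_of_comp hcard (Ph hφ hle 1) hne (x := x) (orderOf_pos x).ne' hx2 hcomm

end Cfsg.Agent.H710.TwD4
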