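import Mathlib
import Cfsg.Agent.Transfer.TausskyTwoGroup

/-!
# Sylow 2-subgroups with `|P : P'| = 4` (helper710)

* `exists_mem_sylow_conj` : conjugation of a 2-element `x` within `⟨x⟩ ⊴ P` is realised in `P`.
* `structure_of_index_four` : a group of order `2 ^ n`, `n ≥ 3`, with `|X : X'| = 4` has a cyclic
  subgroup `⟨c⟩` of index two and `y c y⁻¹ = c ^ j` with `2 ^ (n - 2) ∣ j + 1`.
* `index_four_of_structure` : the converse for `n ≥ 4`.
* `index_four_of_card_eight` : nonabelian groups of order 8.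
-/

set_option autoImplicit false

namespace Cfsg.Agent.H710.MaxClass

open Subgroup
open scoped commutatorElement

universe u

variable {G : Type u} [Group G]

theorem mem_normalizer_zpowers [Finite G] {x t : G} (ht : t * x * t⁻¹ ∈ zpowers x) :
    t ∈ normalizer (zpowers x : Set G) := by
  rw [mem_normalizer_iff_map_conj_eq]
  apply Subgroup.eq_of_le_of_card_ge
  · rw [MonoidHom.map_zpowers, zpowers_le]
    exact ht
  · rw [Subgroup.card_map_of_injective (MulAut.conj t).injective]

/-- Conjugation of a 2-element `x` generating a subgroup normalized by the Sylow 2-subgroup `P`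
within `⟨x⟩` is realised in `P`. -/
theorem exists_mem_sylow_conj [Finite G] (P : Sylow 2 G) (x : G) {a : ℕ} (hx : orderOf x = 2 ^ a)
    (hPN : (P : Subgroup G) ≤ normalizer (zpowers x : Set G)) (t : G)
    (ht : t * x * t⁻¹ ∈ zpowers x) : ∃ u ∈ P, u * x * u⁻¹ = t * x * t⁻¹ := by
  set N := normalizer (zpowers x : Set G) with hN
  have htN : t ∈ N := mem_normalizer_zpowers ht
  let f : N →* MulAut (zpowers x) := normalizerMonoidHom (zpowers x)
  have hcard : Nat.card (MulAut (zpowers x)) = Nat.totient (2 ^ a) := by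
    rw [IsCyclic.card_mulAut, Nat.card_zpowers, hx]
  have hp : IsPGroup 2 (MulAut (zpowers x)) := by
    rcases Nat.eq_zero_or_pos a with h0 | h0
    · refine IsPGroup.of_card (n := 0) ?_
      rw [hcard, h0]
      simp
    · refine IsPGroup.of_card (n := a - 1) ?_
      rw [hcard, Nat.totient_prime_pow Nat.prime_two h0]
      simp
  let g : N →* f.range := f.rangeRestrict
  have hg : Function.Surjective g := f.rangeRestrict_surjective
  let PN : Sylow 2 N := P.subtype hPN
  have htop : ((PN.mapSurjective hg : Sylow 2 f.range) : Subgroup f.range) = ⊤ := by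
    have h1 : IsPGroup 2 (⊤ : Subgroup f.range) := (hp.to_subgroup f.range).to_subgroup ⊤
    exact ((PN.mapSurjective hg).is_maximal' h1 le_top).symm
  have h2 : g ⟨t, htN⟩ ∈ ((PN.mapSurjective hg : Sylow 2 f.range) : Subgroup f.range) := by
    rw [htop]; exact mem_top _
  obtain ⟨u, hu, hut⟩ := h2
  refine ⟨u, hu, ?_⟩
  have h3 : f u = f ⟨t, htN⟩ := congrArg Subtype.val hut
  have h4 := congrArg (fun φ : MulAut (zpowers x) => ((φ ⟨x, mem_zpowers x⟩ : zpowers x) : G)) h3
  exact h4

/-- If a Sylow 2-subgroup normalizes but does not centralize `⟨x⟩`, `x` a 2-element, then the class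
of `x` has even size. -/
theorem two_dvd_index_centralizer [Finite G] {x y : G} {a : ℕ} (hx : orderOf x = 2 ^ a)
    (hy : y ∈ normalizer (zpowers x : Set G)) (hyx : y * x * y⁻¹ ≠ x) :
    2 ∣ (centralizer ({x} : Set G)).index := by
  set N := normalizer (zpowers x : Set G) with hN
  let f : N →* MulAut (zpowers x) := normalizerMonoidHom (zpowers x)
  have hcard : Nat.card (MulAut (zpowers x)) = Nat.totient (2 ^ a) := by
    rw [IsCyclic.card_mulAut, Nat.card_zpowers, hx]
  have hfr : Nat.card f.range ∣ Nat.totient (2 ^ a) := by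
    rw [← hcard]; exact card_subgroup_dvd_card _
  have hle : centralizer ({x} : Set G) ≤ N := by
    intro t ht
    apply mem_normalizer_zpowers
    rw [mem_centralizer_singleton_iff] at ht
    rw [ht]
    simp
  have hker : f.ker = (centralizer ({x} : Set G)).subgroupOf N := by
    ext t
    rw [MonoidHom.mem_ker, mem_subgroupOf, mem_centralizer_singleton_iff]
    constructor
    · intro h
      have h4 := congrArg (fun φ : MulAut (zpowers x) => ((φ ⟨x, mem_zpowers x⟩ : zpowers x) : G)) h
      have h5 : (t : G) * x * (t : G)⁻¹ = x := h4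
      rw [mul_inv_eq_iff_eq_mul] at h5
      exact h5
    · intro h
      have h5 : (t : G) * x * (t : G)⁻¹ = x := by rw [h]; simp
      ext ⟨z, hz⟩
      obtain ⟨i, rfl⟩ := mem_zpowers_iff.1 hz
      show (t : G) * x ^ i * (t : G)⁻¹ = x ^ i
      rw [← conj_zpow, h5]
  have hrel : (centralizer ({x} : Set G)).relIndex N = Nat.card f.range := by
    rw [← Subgroup.index_ker, hker]
    rfl
  have hne : (centralizer ({x} : Set G)).relIndex N ≠ 1 := by
    intro h
    rw [relIndex_eq_one] at h
    have h1 := h hy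
    rw [mem_centralizer_singleton_iff] at h1
    apply hyx
    rw [h1]; simp
  have h2 : 2 ∣ Nat.card f.range := by
    rw [hrel] at hne
    rcases Nat.eq_zero_or_pos a with h0 | h0
    · rw [h0] at hfr
      exact absurd (by simpa using hfr) hne
    · rw [Nat.totient_prime_pow Nat.prime_two h0] at hfr
      simp only [Nat.add_one_sub_one, mul_one] at hfr
      obtain ⟨i, hi, hi2⟩ := (Nat.dvd_prime_pow Nat.prime_two).1 hfr
      rcases Nat.eq_zero_or_pos i with h | h
      · rw [h, pow_zero] at hi2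
        exact absurd hi2 hne
      · rw [hi2]; exact dvd_pow_self 2 h.ne'
  rw [← hrel] at h2
  exact h2.trans (relIndex_dvd_index_of_le hle)

section Struct

variable {X : Type u} [Group X]

theorem conj_pow' {c y : X} {j : ℕ} (hj : y * c * y⁻¹ = c ^ j) (k : ℕ) :
    y * c ^ k * y⁻¹ = c ^ (j * k) := by
  rw [← conj_pow, hj, pow_mul]

theorem normal_zpowers_pow {c y : X} (h : ∀ u : X, u ∈ zpowers c ∨ u * y⁻¹ ∈ zpowers c) {j : ℕ}
    (hj : y * c * y⁻¹ = c ^ j) (d : ℕ) : (zpowers (c ^ d)).Normal := by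
  have key : ∀ u : X, u * c ^ d * u⁻¹ ∈ zpowers (c ^ d) := by
    intro u
    have hy : y * c ^ d * y⁻¹ ∈ zpowers (c ^ d) := by
      rw [conj_pow' hj, mul_comm, pow_mul]
      exact pow_mem (mem_zpowers _) _
    rcases h u with hu | hu
    · obtain ⟨i, rfl⟩ := mem_zpowers_iff.1 hu
      have : c ^ i * c ^ d * (c ^ i)⁻¹ = c ^ d := by
        rw [((Commute.refl c).zpow_left i).pow_right d |>.eq]; group
      rw [this]
      exact mem_zpowers _
    · obtain ⟨i, hi⟩ := mem_zpowers_iff.1 hu
      have hu2 : u = c ^ i * y := by rw [hi]; group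
      obtain ⟨k, hk⟩ := mem_zpowers_iff.1 hy
      have h1 : u * c ^ d * u⁻¹ = c ^ i * (y * c ^ d * y⁻¹) * (c ^ i)⁻¹ := by rw [hu2]; group
      rw [h1, ← hk]
      have : c ^ i * (c ^ d) ^ k * (c ^ i)⁻¹ = (c ^ d) ^ k := by
        rw [(((Commute.refl c).zpow_left i).pow_right d).zpow_right k |>.eq]; group
      rw [this]
      exact zpow_mem (mem_zpowers _) k
  constructor
  intro n hn g
  obtain ⟨k, rfl⟩ := mem_zpowers_iff.1 hn
  rw [← conj_zpow]
  exact zpow_mem (key g) k

/-- The commutator subgroup of a group with a cyclic subgroup of index two. -/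
theorem commutator_le {c y : X} (h : ∀ u : X, u ∈ zpowers c ∨ u * y⁻¹ ∈ zpowers c) {j : ℕ}
    (hj : y * c * y⁻¹ = c ^ j) (d : ℕ) (hd : (d : ℤ) ∣ (j : ℤ) - 1) :
    commutator X ≤ zpowers (c ^ d) := by
  have hn := normal_zpowers_pow h hj d
  let Q := X ⧸ zpowers (c ^ d)
  let f : X →* Q := QuotientGroup.mk' _
  have hcy : Commute (f c) (f y) := by
    have h1 : f (y * c * y⁻¹ * c⁻¹) = 1 := by
      rw [hj]
      refine (QuotientGroup.eq_one_iff _).2 ?_
      obtain ⟨k, hk⟩ := hd
      rw [mem_zpowers_iff]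
      refine ⟨k, ?_⟩
      rw [← zpow_natCast c d, ← zpow_mul, ← hk, zpow_sub, zpow_natCast, zpow_one]
    have h2 : f y * f c * (f y)⁻¹ * (f c)⁻¹ = 1 := by simpa using h1
    rw [mul_inv_eq_one, mul_inv_eq_iff_eq_mul] at h2
    exact h2.symm
  have hgen : ∀ u : X, ∃ i : ℤ, ∃ a : ℕ, f u = f c ^ i * f y ^ a := by
    intro u
    rcases h u with hu | hu
    · obtain ⟨i, rfl⟩ := mem_zpowers_iff.1 hu
      exact ⟨i, 0, by simp⟩
    · obtain ⟨i, hi⟩ := mem_zpowers_iff.1 hu
      refine ⟨i, 1, ?_⟩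
      have hu2 : u = c ^ i * y := by rw [hi]; group
      rw [hu2, map_mul, map_zpow, pow_one]
  rw [_root_.commutator_def, Subgroup.commutator_le]
  intro u _ v _
  have h1 : f ⁅u, v⁆ = 1 := by
    obtain ⟨i, a, hu⟩ := hgen u
    obtain ⟨k, b, hv⟩ := hgen v
    rw [map_commutatorElement, commutatorElement_eq_one_iff_commute, hu, hv]
    have h2 : Commute (f c ^ i) (f y ^ b) := (hcy.zpow_left i).pow_right b
    have h3 : Commute (f y ^ a) (f c ^ k) := (hcy.symm.pow_left a).zpow_right k
    have h4 : Commute (f c ^ i) (f c ^ k) := (Commute.refl (f c)).zpow_zpow i k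
    have h5 : Commute (f y ^ a) (f y ^ b) := (Commute.refl (f y)).pow_pow a b
    exact (h4.mul_right h2).mul_left (h3.mul_right h5)
  exact (QuotientGroup.eq_one_iff _).1 h1

theorem pow_mem_commutator {c y : X} {j : ℕ} (hj : y * c * y⁻¹ = c ^ j) :
    c ^ ((j : ℤ) - 1) ∈ commutator X := by
  have h1 : c ^ ((j : ℤ) - 1) = ⁅y, c⁆ := by
    rw [commutatorElement_def, hj, zpow_sub, zpow_natCast, zpow_one]
  rw [h1, _root_.commutator_def]
  exact commutator_mem_commutator (mem_top _) (mem_top _)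

theorem index_zpowers_pow [Finite X] {c : X} {a n : ℕ} (hc : orderOf c = 2 ^ a)
    (hX : Nat.card X = 2 ^ n) (han : a + 1 = n) (b : ℕ) (hb : b ≤ a) :
    (zpowers (c ^ (2 ^ b))).index = 2 ^ (b + 1) := by
  have h1 : Nat.card (zpowers (c ^ (2 ^ b))) = 2 ^ (a - b) := by
    rw [Nat.card_zpowers, orderOf_pow_of_dvd (by positivity) (by rw [hc]; exact pow_dvd_pow 2 hb), hc,
      Nat.pow_div hb (by norm_num)]
  have h2 := (zpowers (c ^ (2 ^ b))).card_mul_index
  rw [h1, hX, ← han] at h2
  have h3 : 2 ^ (a + 1) = 2 ^ (a - b) * 2 ^ (b + 1) := by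
    rw [← pow_add]; congr 1; omega
  rw [h3] at h2
  exact Nat.eq_of_mul_eq_mul_left (by positivity) h2

/-- Structure of the 2-groups with `|X : X'| = 4`. -/
theorem structure_of_index_four [Finite X] {n : ℕ} (hn : 3 ≤ n) (hX : Nat.card X = 2 ^ n)
    (h4 : (commutator X).index = 4) :
    ∃ (c y : X) (j : ℕ), orderOf c = 2 ^ (n - 1) ∧
      (∀ u : X, u ∈ zpowers c ∨ u * y⁻¹ ∈ zpowers c) ∧ y ∉ zpowers c ∧
      y * c * y⁻¹ = c ^ j ∧ 4 ∣ j + 1 ∧ 2 ^ (n - 2) ∣ j + 1 := by
  obtain ⟨C, hC, hCi⟩ := Cfsg.Agent.Transfer.TausskyTwoGroup.exists_isCyclic_index_two n hX h4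
  obtain ⟨⟨c, hcC⟩, hc⟩ := hC.exists_generator
  have hCz : C = zpowers c := by
    ext u
    constructor
    · intro hu
      obtain ⟨i, hi⟩ := mem_zpowers_iff.1 (hc ⟨u, hu⟩)
      exact mem_zpowers_iff.2 ⟨i, congrArg Subtype.val hi⟩
    · intro hu
      exact (zpowers_le.2 hcC) hu
  have hco : orderOf c = 2 ^ (n - 1) := by
    have h1 := C.card_mul_index
    rw [hCi, hX, hCz, Nat.card_zpowers] at h1
    have h2 : 2 ^ n = 2 ^ (n - 1) * 2 := by rw [← pow_succ]; congr 1; omega
    omega
  subst hCz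
  have hCn : (zpowers c).Normal := normal_of_index_eq_two hCi
  obtain ⟨y, hy⟩ : ∃ y, y ∉ zpowers c := by
    by_contra hcon
    push Not at hcon
    have : zpowers c = ⊤ := (eq_top_iff' _).2 hcon
    rw [this, index_top] at hCi
    omega
  have hall : ∀ u : X, u ∈ zpowers c ∨ u * y⁻¹ ∈ zpowers c := by
    intro u
    by_cases hu : u ∈ zpowers c
    · exact Or.inl hu
    · right
      have := (mul_mem_iff_of_index_two hCi (a := u) (b := y⁻¹)).2
        (by constructor
            · intro h; exact absurd h hu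
            · intro h; exact absurd (inv_mem_iff.1 h) hy)
      exact this
  have hyc : y * c * y⁻¹ ∈ zpowers c := hCn.conj_mem c (mem_zpowers c) y
  obtain ⟨j, hj⟩ : ∃ j : ℕ, c ^ j = y * c * y⁻¹ := by
    classical
    rw [mem_zpowers_iff_mem_range_orderOf, Finset.mem_image] at hyc
    obtain ⟨j, -, hj⟩ := hyc
    exact ⟨j, hj⟩
  have hj' := hj.symm
  -- `j` is `3` modulo `4`
  have hord2 : (2 : ℕ) ∣ orderOf c := by
    rw [hco]; exact dvd_pow_self 2 (by omega)
  have hodd : ¬ 2 ∣ j := by
    intro h2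
    have h3 : orderOf (c ^ j) = orderOf c := by
      rw [hj]
      exact orderOf_injective (MulAut.conj y).toMonoidHom (MulAut.conj y).injective c
    have h5 : (orderOf c).Coprime j := by
      rw [orderOf_pow] at h3
      have h6 : 0 < orderOf c := orderOf_pos c
      have h7 : Nat.gcd (orderOf c) j ∣ orderOf c := Nat.gcd_dvd_left _ _
      have h8 := Nat.div_mul_cancel h7
      rw [h3] at h8
      have : Nat.gcd (orderOf c) j = 1 := by
        have := Nat.eq_of_mul_eq_mul_left h6 (h8.trans (mul_one _).symm)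
        exact this
      exact this
    have := Nat.dvd_gcd hord2 h2
    rw [h5] at this
    omega
  have hnot1 : ¬ (4 : ℤ) ∣ (j : ℤ) - 1 := by
    intro h1
    have h2 := commutator_le hall hj' 4 (by exact_mod_cast h1)
    have h3 := index_zpowers_pow hco hX (by omega) 2 (by omega)
    have h5 : (zpowers (c ^ (2 ^ 2))).index ∣ (commutator X).index := index_dvd_of_le (by
      simpa using h2)
    rw [h3, h4] at h5
    norm_num at h5
  refine ⟨c, y, j, hco, hall, hy, hj', by omega, ?_⟩
  -- `j ^ 2 = 1`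
  have hy2 : y * y ∈ zpowers c := by
    exact (mul_mem_iff_of_index_two hCi).2 Iff.rfl
  have hj2 : c ^ (j * j) = c := by
    have h1 : (y * y) * c * (y * y)⁻¹ = c := by
      obtain ⟨i, hi⟩ := mem_zpowers_iff.1 hy2
      rw [← hi, ((Commute.refl c).zpow_left i).eq]; group
    have h2 : (y * y) * c * (y * y)⁻¹ = y * (y * c * y⁻¹) * y⁻¹ := by group
    rw [h2, hj', conj_pow' hj'] at h1
    exact h1
  have h5 : (2 : ℤ) ^ (n - 1) ∣ ((j : ℤ) - 1) * (j + 1) := by
    have h6 : c ^ ((j : ℤ) * j - 1) = 1 := by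
      rw [zpow_sub, zpow_one, ← Nat.cast_mul, zpow_natCast, hj2, mul_inv_cancel]
    have h7 := orderOf_dvd_iff_zpow_eq_one.2 h6
    rw [hco] at h7
    push_cast at h7
    have h8 : ((j : ℤ) - 1) * (j + 1) = (j : ℤ) * j - 1 := by ring
    rw [h8]
    exact h7
  obtain ⟨k, hk⟩ : ∃ k : ℤ, (j : ℤ) - 1 = 2 * k ∧ ¬ 2 ∣ k := by
    have h6 : ∃ k : ℤ, (j : ℤ) - 1 = 2 * k := ⟨((j : ℤ) - 1) / 2, by omega⟩
    obtain ⟨k, hk⟩ := h6
    exact ⟨k, hk, fun h => hnot1 (by omega)⟩
  rw [hk.1] at h5
  have h6 : (2 : ℤ) ^ (n - 2) ∣ k * (j + 1) := by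
    have h7 : (2 : ℤ) ^ (n - 1) = 2 * 2 ^ (n - 2) := by rw [← pow_succ']; congr 1; omega
    rw [h7, mul_assoc] at h5
    exact (mul_dvd_mul_iff_left (by norm_num)).1 h5
  have h7 : IsCoprime ((2 : ℤ) ^ (n - 2)) k := by
    apply IsCoprime.pow_left
    rw [Int.isCoprime_iff_gcd_eq_one]
    have h8 : Int.gcd 2 k ∣ 2 := by
      have := Int.gcd_dvd_natAbs_left 2 k
      simpa using this
    have h9 := (Nat.dvd_prime Nat.prime_two).1 h8
    rcases h9 with h9 | h9
    · exact h9
    · exfalso
      apply hk.2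
      have := Int.gcd_dvd_right 2 k
      rw [h9] at this
      exact_mod_cast this
  have h8 := h7.dvd_of_dvd_mul_left h6
  exact_mod_cast h8

/-- The converse. -/
theorem index_four_of_structure [Finite X] {n : ℕ} (hn : 4 ≤ n) (hX : Nat.card X = 2 ^ n)
    {c y : X} {j : ℕ} (hco : orderOf c = 2 ^ (n - 1))
    (hall : ∀ u : X, u ∈ zpowers c ∨ u * y⁻¹ ∈ zpowers c)
    (hj : y * c * y⁻¹ = c ^ j) (hj4 : 4 ∣ j + 1) : (commutator X).index = 4 := by
  have h1 : commutator X ≤ zpowers (c ^ (2 ^ 1)) := by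
    have := commutator_le hall hj 2 (by omega)
    simpa using this
  have h2 : (zpowers (c ^ (2 ^ 1))).index = 4 :=
    index_zpowers_pow hco hX (by omega) 1 (by omega)
  have h3 : zpowers (c ^ (2 ^ 1)) ≤ commutator X := by
    rw [zpowers_le]
    have h4 := pow_mem_commutator hj
    -- `c ^ 2` is a power of `c ^ (j - 1)`
    obtain ⟨k, hk⟩ : ∃ k : ℤ, (j : ℤ) - 1 = 2 * k ∧ ¬ 2 ∣ k :=
      ⟨((j : ℤ) - 1) / 2, by omega, by omega⟩
    have h5 : IsCoprime ((2 : ℤ) ^ (n - 1)) k := by
      apply IsCoprime.pow_left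
      rw [Int.isCoprime_iff_gcd_eq_one]
      have h8 : Int.gcd 2 k ∣ 2 := by
        have := Int.gcd_dvd_natAbs_left 2 k
        simpa using this
      have h9 := (Nat.dvd_prime Nat.prime_two).1 h8
      rcases h9 with h9 | h9
      · exact h9
      · exfalso
        apply hk.2
        have := Int.gcd_dvd_right 2 k
        rw [h9] at this
        exact_mod_cast this
    obtain ⟨a, b, hab⟩ := h5
    have h6 : c ^ (2 ^ 1) = (c ^ ((j : ℤ) - 1)) ^ b := by
      have h7 : c ^ ((2 : ℤ) ^ (n - 1)) = 1 := by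
        have := pow_orderOf_eq_one c
        rw [hco] at this
        exact_mod_cast this
      rw [hk.1, ← zpow_mul]
      have h8 : (2 : ℤ) * k * b = 2 - 2 ^ (n - 1) * (2 * a) := by linear_combination 2 * hab
      rw [h8, zpow_sub, zpow_mul c (2 ^ (n - 1)), h7, one_zpow, inv_one, mul_one]
      norm_num
    rw [h6]
    exact zpow_mem h4 b
  rw [le_antisymm h1 h3, h2]

/-- Nonabelian groups of order 8. -/
theorem index_four_of_card_eight [Finite X] (hX : Nat.card X = 8) (hna : ∃ a b : X, a * b ≠ b * a) :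
    (commutator X).index = 4 := by
  obtain ⟨a, b, hab⟩ := hna
  have hp : IsPGroup 2 X := IsPGroup.of_card (n := 3) (by rw [hX]; norm_num)
  have hnt : Nontrivial X := ⟨⟨a, b, fun h => hab (by rw [h])⟩⟩
  have hcz := (center X).card_mul_index
  have hz1 : Nat.card (center X) ≠ 1 := by
    have := hp.center_nontrivial
    intro h
    have h1 := Nat.card_eq_one_iff_unique.1 h
    exact not_subsingleton (center X) h1.1
  have hcomm : ∀ k : ℕ, (center X).index = k → k = 1 ∨ k = 2 → False := by
    intro k hk h12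
    have hcyc : IsCyclic (X ⧸ center X) := by
      have hk' : Nat.card (X ⧸ center X) = k := hk
      rcases h12 with h | h
      · have := Nat.card_eq_one_iff_unique.1 (hk'.trans h)
        have := this.1
        exact isCyclic_of_subsingleton
      · have : Fact (Nat.Prime 2) := ⟨Nat.prime_two⟩
        exact isCyclic_of_prime_card (hk'.trans h)
    have hc := MonoidHom.isMulCommutative_of_isCyclic_of_ker_le_center
      (QuotientGroup.mk' (center X)) (by simp)
    exact hab (hc.is_comm.comm a b)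
  have hd : Nat.card (center X) ∣ 8 := by rw [← hX]; exact card_subgroup_dvd_card _
  have hcz2 : Nat.card (center X) = 2 := by
    have h1 : Nat.card (center X) ∣ 2 ^ 3 := hd
    obtain ⟨i, hi, hi2⟩ := (Nat.dvd_prime_pow Nat.prime_two).1 h1
    rw [hX] at hcz
    interval_cases i
    · exact absurd hi2 hz1
    · simpa using hi2
    · rw [hi2] at hcz
      exact absurd (hcomm 2 (by omega) (Or.inr rfl)) id
    · rw [hi2] at hcz
      exact absurd (hcomm 1 (by omega) (Or.inl rfl)) id
  have hci : (center X).index = 4 := by rw [hcz2, hX] at hcz; omega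
  have hle : commutator X ≤ center X := by
    have : Fact (Nat.Prime 2) := ⟨Nat.prime_two⟩
    have h1 : ∀ u v : X ⧸ center X, u * v = v * u := by
      have h2 : Nat.card (X ⧸ center X) = 2 ^ 2 := hci
      exact (IsPGroup.isMulCommutative_of_card_eq_prime_sq h2).is_comm.comm
    rw [_root_.commutator_def, Subgroup.commutator_le]
    intro u _ v _
    rw [← QuotientGroup.eq_one_iff]
    show ((⁅u, v⁆ : X) : X ⧸ center X) = 1
    have h3 : ((⁅u, v⁆ : X) : X ⧸ center X) = ⁅(u : X ⧸ center X), (v : X ⧸ center X)⁆ := rfl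
    rw [h3, commutatorElement_eq_one_iff_mul_comm]
    exact h1 _ _
  have hne : commutator X ≠ ⊥ := by
    intro h
    apply hab
    have h1 : ⁅a, b⁆ ∈ commutator X := by
      rw [_root_.commutator_def]
      exact commutator_mem_commutator (mem_top _) (mem_top _)
    rw [h, mem_bot, commutatorElement_eq_one_iff_mul_comm] at h1
    exact h1
  have heq : commutator X = center X := by
    apply Subgroup.eq_of_le_of_card_ge hle
    rw [hcz2]
    have h1 : 1 < Nat.card (commutator X) := by
      rw [Subgroup.one_lt_card_iff_ne_bot]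
      exact hne
    omega
  rw [heq, hci]

end Struct

end Cfsg.Agent.H710.MaxClass
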